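import Mathlib

/-!
# Models of a finitely presented algebra over finitely generated subrings
-/

set_option autoImplicit false
set_option linter.style.haveILetI false
universe u

namespace Groth.Agent.SmoothStrat

open TensorProduct

theorem exists_equiv_of_map_eq {R₀ A B : Type u} [CommRing R₀] [CommRing A] [CommRing B] [Algebra R₀ A] [Algebra A B]
    {n : ℕ} (φ : MvPolynomial (Fin n) A →ₐ[A] B) (hφ : Function.Surjective φ) (G₀ : Ideal (MvPolynomial (Fin n) R₀))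
    (h : G₀.map (MvPolynomial.map (algebraMap R₀ A)) = RingHom.ker φ) :
    ∃ (B₀ : Type u) (_ : CommRing B₀) (_ : Algebra R₀ B₀) (_ : Algebra.FiniteType R₀ B₀)
      (π : MvPolynomial (Fin n) R₀ → B₀) (e : A ⊗[R₀] B₀ ≃ₐ[A] B),
      ∀ q, e ((1 : A) ⊗ₜ[R₀] π q) = φ (MvPolynomial.map (algebraMap R₀ A) q) := by
  let ε : A ⊗[R₀] MvPolynomial (Fin n) R₀ ≃ₐ[A] MvPolynomial (Fin n) A := MvPolynomial.algebraTensorAlgEquiv R₀ A
  have hε : ∀ q : MvPolynomial (Fin n) R₀, ε ((1 : A) ⊗ₜ[R₀] q) = MvPolynomial.map (algebraMap R₀ A) q := fun q => by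
    simp [ε]
  let e₁ : A ⊗[R₀] (MvPolynomial (Fin n) R₀ ⧸ G₀) ≃ₐ[A] (A ⊗[R₀] MvPolynomial (Fin n) R₀) ⧸
      G₀.map (Algebra.TensorProduct.includeRight : MvPolynomial (Fin n) R₀ →ₐ[R₀] A ⊗[R₀] MvPolynomial (Fin n) R₀) :=
    Algebra.TensorProduct.tensorQuotientEquiv A (MvPolynomial (Fin n) R₀) A G₀
  let e₂ : ((A ⊗[R₀] MvPolynomial (Fin n) R₀) ⧸
      G₀.map (Algebra.TensorProduct.includeRight : MvPolynomial (Fin n) R₀ →ₐ[R₀] A ⊗[R₀] MvPolynomial (Fin n) R₀)) ≃ₐ[A]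
      MvPolynomial (Fin n) A ⧸ RingHom.ker φ :=
    Ideal.quotientEquivAlg _ _ ε (by
      erw [Ideal.map_map]; rw [← h]
      exact congrArg (fun f : MvPolynomial (Fin n) R₀ →+* MvPolynomial (Fin n) A => G₀.map f)
        (RingHom.ext fun q => (hε q).symm))
  refine ⟨MvPolynomial (Fin n) R₀ ⧸ G₀, inferInstance, inferInstance, inferInstance, Ideal.Quotient.mk G₀,
    (e₁.trans e₂).trans (Ideal.quotientKerAlgEquivOfSurjective hφ), fun q => ?_⟩
  rw [← hε]
  rfl

/-- A finitely presented algebra and finitely many of its elements are defined over every subring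
containing a suitable finite set. -/
theorem exists_coeffs (A B : Type u) [CommRing A] [CommRing B] [Algebra A B] [Algebra.FinitePresentation A B]
    (T : Finset B) :
    ∃ s : Finset A, ∀ R₀ : Subalgebra ℤ A, (s : Set A) ⊆ R₀ →
      ∃ (B₀ : Type u) (_ : CommRing B₀) (_ : Algebra R₀ B₀) (_ : Algebra.FiniteType R₀ B₀)
        (e : A ⊗[R₀] B₀ ≃ₐ[A] B) (T₀ : Set B₀),
          (fun b => e ((1 : A) ⊗ₜ[R₀] b)) '' T₀ = (T : Set B) := by
  classical
  obtain ⟨n, φ, hφ, G, hG⟩ := Algebra.FinitePresentation.out (R := A) (A := B)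
  replace hG : Ideal.span (G : Set (MvPolynomial (Fin n) A)) = RingHom.ker φ.toRingHom := hG
  choose lift hlift using hφ
  refine ⟨G.biUnion (fun g => g.coeffs) ∪ T.biUnion (fun b => (lift b).coeffs), fun R₀ hs => ?_⟩
  have hdef : ∀ p : MvPolynomial (Fin n) A, (p.coeffs : Set A) ⊆ R₀ →
      ∃ q : MvPolynomial (Fin n) R₀, MvPolynomial.map (algebraMap R₀ A) q = p := fun p hp =>
    MvPolynomial.mem_range_map_iff_coeffs_subset.2 fun x hx => ⟨⟨x, hp hx⟩, rfl⟩
  have hGd : ∀ g ∈ G, ∃ q : MvPolynomial (Fin n) R₀, MvPolynomial.map (algebraMap R₀ A) q = g := fun g hg =>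
    hdef g fun x hx => hs (Finset.mem_coe.2 (Finset.mem_union_left _ (Finset.mem_biUnion.2 ⟨g, hg, hx⟩)))
  have hTd : ∀ b ∈ T, ∃ q : MvPolynomial (Fin n) R₀, MvPolynomial.map (algebraMap R₀ A) q = lift b := fun b hb =>
    hdef _ fun x hx => hs (Finset.mem_coe.2 (Finset.mem_union_right _ (Finset.mem_biUnion.2 ⟨b, hb, hx⟩)))
  choose! gl hgl using hGd
  choose! tl htl using hTd
  let G₀ : Ideal (MvPolynomial (Fin n) R₀) := Ideal.span (gl '' G)
  have hG₀ : G₀.map (MvPolynomial.map (algebraMap R₀ A)) = RingHom.ker φ := by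
    rw [Ideal.map_span, ← Set.image_comp]
    refine Eq.trans ?_ hG
    exact congrArg Ideal.span ((Set.image_congr fun g hg => hgl g hg).trans (Set.image_id' _))
  obtain ⟨B₀, _, _, hB₀, π, e, he⟩ := exists_equiv_of_map_eq φ (fun b => ⟨lift b, hlift b⟩) G₀ hG₀
  refine ⟨B₀, ‹_›, ‹_›, hB₀, e, (fun b => π (tl b)) '' T, ?_⟩
  rw [← Set.image_comp]
  refine Eq.trans (Set.image_congr fun b hb => ?_) (Set.image_id' _)
  show e ((1 : A) ⊗ₜ[R₀] π (tl b)) = b
  rw [he, htl b hb, hlift]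

end Groth.Agent.SmoothStrat
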