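import Groth.Agent.SmoothStrat.Chain

/-!
# Chains from algebraic stratifications and from lists of pieces
-/

set_option autoImplicit false
set_option linter.style.haveILetI false
set_option backward.isDefEq.respectTransparency false
set_option backward.isDefEq.respectTransparency.types false
universe u

open CategoryTheory CategoryTheory.Limits AlgebraicGeometry TopologicalSpace

namespace Groth.Agent.SmoothStrat

variable {X : Scheme.{u}} {P : ∀ {Z : Scheme.{u}}, (Z ⟶ X) → Prop}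

theorem mem_zeroLocus_map_res {U W : X.Opens} (h : W ≤ U) (J : Ideal Γ(X, U)) {x : X} (hx : x ∈ W) :
    x ∈ X.zeroLocus (U := W) (J.map (X.presheaf.map (homOfLE h).op).hom : Set Γ(X, W)) ↔
      x ∈ X.zeroLocus (U := U) (J : Set Γ(X, U)) := by
  rw [Ideal.map, Scheme.zeroLocus_span, Scheme.mem_zeroLocus_iff, Scheme.mem_zeroLocus_iff]
  constructor
  · intro h' f hf hxf
    refine h' _ ⟨f, hf, rfl⟩ ?_
    rw [Scheme.basicOpen_res]
    exact ⟨hx, hxf⟩
  · rintro h' _ ⟨f, hf, rfl⟩ hxf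
    rw [Scheme.basicOpen_res] at hxf
    exact h' f hf hxf.2

/-- Strata of an algebraic stratification. -/
theorem reach_of_strat [CompactSpace X] [QuasiSeparatedSpace X] {U : X.Opens} (hU : IsAffineOpen U)
    {R : Type u} [CommRing R] [Algebra R Γ(X, U)] {I : Ideal Γ(X, U)} (hs : Strat R Γ(X, U) 1 I)
    (hP : ∀ (a : Γ(X, U)) (J : Ideal Γ(X, U)), Sm R Γ(X, U) J a → ∀ {Z : Scheme.{u}} (g : Z ⟶ X)
      (e : Spec (CommRingCat.of (Γ(X, X.basicOpen a) ⧸ J.map (X.presheaf.map (homOfLE (X.basicOpen_le a)).op).hom)) ≅ Z),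
        e.hom ≫ g = pieceHom (hU.basicOpen a) (J.map (X.presheaf.map (homOfLE (X.basicOpen_le a)).op).hom) → P g)
    {O : X.Opens} (hO : IsCompact (O : Set X))
    (hV : ∀ x ∈ U, x ∈ X.zeroLocus (U := U) (I : Set Γ(X, U)) ↔ x ∉ O)
    (h : Reach P (U ⊔ O)) : Reach P O := by
  induction hs generalizing O with
  | @top I hI =>
    rw [map_one, ← Ideal.eq_top_iff_one, Ideal.radical_eq_top] at hI
    have hle : U ≤ O := fun x hx => by
      by_contra hxO
      have h1 := (Scheme.mem_zeroLocus_iff _ _ _).1 ((hV x hx).2 hxO) 1 (hI ▸ Submodule.mem_top)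
      rw [Scheme.basicOpen_of_isUnit _ isUnit_one] at h1
      exact h1 hx
    rwa [sup_eq_right.2 hle] at h
  | @step I a J hJ hIJ hrad hsm _ ih =>
    rw [map_one, one_mul] at hsm
    simp only [map_one, one_mul] at hrad
    let W := X.basicOpen a
    have hWO : IsCompact ((W ⊔ O : X.Opens) : Set X) := by
      rw [Opens.coe_sup]
      exact (hU.basicOpen a).isCompact.union hO
    have h' : Reach P (W ⊔ O) := by
      refine ih hWO (fun x hx => ?_) ?_
      · rw [zeroLocus_sup_span I {a} x hx, hV x hx, Opens.mem_sup]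
        simp only [Set.mem_singleton_iff, forall_eq]
        exact ⟨fun ⟨h1, h2⟩ h3 => h3.elim h2 h1, fun h3 => ⟨fun h4 => h3 (Or.inr h4), fun h4 => h3 (Or.inl h4)⟩⟩
      · rwa [← sup_assoc, sup_eq_left.2 (show W ≤ U from X.basicOpen_le a)]
    refine reach_step (hU.basicOpen a) _ (hJ.map _) hO (fun x hx => ?_) (fun {Z} g e he => hP a J hsm g e he) h'
    have hxU : x ∈ U := X.basicOpen_le a hx
    rw [mem_zeroLocus_map_res _ J hx, ← hV x hxU, Scheme.mem_zeroLocus_iff, Scheme.mem_zeroLocus_iff]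
    refine ⟨fun h1 f hf => h1 f (hIJ hf), fun h1 f hf hxf => ?_⟩
    obtain ⟨n, hn⟩ := hrad f hf
    have hn' : (a * f) ^ (n + 1) ∈ I := by rw [pow_succ]; exact I.mul_mem_right _ hn
    refine h1 _ hn' ?_
    rw [X.basicOpen_pow (a * f) (Nat.succ_pos n), Scheme.basicOpen_mul]
    exact ⟨hx, hxf⟩

/-- A finitely generated ideal cutting out the complement of a compact open on an affine open. -/
theorem exists_fg_ideal_compl' {W : X.Opens} (hW : IsAffineOpen W) {O : X.Opens}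
    (hc : IsCompact ((W : Set X) ∩ O)) :
    ∃ K : Ideal Γ(X, W), K.FG ∧ ∀ x ∈ W, x ∈ X.zeroLocus (U := W) (K : Set Γ(X, W)) ↔ x ∉ O := by
  classical
  obtain ⟨t, ht⟩ := hc.elim_finite_subcover
    (fun r : {r : Γ(X, W) // X.basicOpen r ≤ O} => ((X.basicOpen r.1 : X.Opens) : Set X))
    (fun r => (X.basicOpen r.1).2) (fun x hx => by
      obtain ⟨r, hr, hxr⟩ := hW.exists_basicOpen_le (V := O) ⟨x, hx.2⟩ hx.1
      exact Set.mem_iUnion.mpr ⟨⟨r, hr⟩, hxr⟩)
  refine ⟨Ideal.span (t.image Subtype.val : Set Γ(X, W)), ⟨_, rfl⟩, fun x hx => ?_⟩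
  rw [Scheme.zeroLocus_span, Scheme.mem_zeroLocus_iff]
  constructor
  · intro h hxO
    obtain ⟨r, hr, hxr⟩ := Set.mem_iUnion₂.1 (ht ⟨hx, hxO⟩)
    exact h r.1 (Finset.mem_coe.2 (Finset.mem_image_of_mem _ hr)) hxr
  · intro h r hr hxr
    obtain ⟨r', -, rfl⟩ := Finset.mem_image.1 (Finset.mem_coe.1 hr)
    exact h (r'.2 hxr)

theorem exists_fg_ideal_compl [QuasiSeparatedSpace X] {W : X.Opens} (hW : IsAffineOpen W) {O : X.Opens}
    (hO : IsCompact (O : Set X)) :
    ∃ K : Ideal Γ(X, W), K.FG ∧ ∀ x ∈ W, x ∈ X.zeroLocus (U := W) (K : Set Γ(X, W)) ↔ x ∉ O :=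
  exists_fg_ideal_compl' hW (hW.isCompact.inter_of_isOpen hO W.2 O.2)

/-- A piece `V(q) ∩ D(g)` all of whose affine subschemes have `P`. -/
def GoodPiece (P : ∀ {Z : Scheme.{u}}, (Z ⟶ X) → Prop) {U : X.Opens} (hU : IsAffineOpen U)
    (q : Ideal Γ(X, U)) (g : Γ(X, U)) : Prop :=
  ∀ (D : CommRingCat.{u}) (φ : Γ(X, U) ⟶ D), (∀ a ∈ q, φ a = 0) → IsUnit (φ g) →
    ∀ {Z : Scheme.{u}} (h : Z ⟶ X) (e : Spec D ≅ Z), e.hom ≫ h = Spec.map φ ≫ hU.fromSpec → P h

/-- Strata from finitely many good pieces. -/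
theorem reach_of_pieces [CompactSpace X] [QuasiSeparatedSpace X] {U : X.Opens} (hU : IsAffineOpen U) :
    ∀ (l : List (Ideal Γ(X, U) × Γ(X, U))), (∀ p ∈ l, p.1.FG ∧ GoodPiece P hU p.1 p.2) →
      ∀ {W : X.Opens}, IsAffineOpen W → W ≤ U → ∀ {O : X.Opens}, IsCompact (O : Set X) →
        (∀ x ∈ W, x ∉ O → ∃ p ∈ l, x ∈ X.zeroLocus (U := U) (p.1 : Set Γ(X, U)) ∧ x ∈ X.basicOpen p.2) →
        Reach P (W ⊔ O) → Reach P O := by
  classical
  intro l
  induction l with
  | nil =>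
    intro _ W _ _ O _ hcov h
    have hle : W ≤ O := fun x hx => by
      by_contra hxO
      obtain ⟨p, hp, -⟩ := hcov x hx hxO
      simp at hp
    rwa [sup_eq_right.2 hle] at h
  | cons p l ih =>
    obtain ⟨q, g⟩ := p
    intro hgood W hW hWU O hO hcov h
    have hl : ∀ p' ∈ l, p'.1.FG ∧ GoodPiece P hU p'.1 p'.2 := fun p' hp' => hgood p' (List.mem_cons_of_mem _ hp')
    obtain ⟨hq, hqg⟩ := hgood _ List.mem_cons_self
    let ρ := (X.presheaf.map (homOfLE hWU).op)
    let W₁ := X.basicOpen (ρ g)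
    have hW₁ : IsAffineOpen W₁ := hW.basicOpen _
    have hW₁W : W₁ ≤ W := X.basicOpen_le _
    have hW₁g : ∀ x, x ∈ W₁ ↔ x ∈ W ∧ x ∈ X.basicOpen g := fun x => by
      show x ∈ X.basicOpen (X.presheaf.map (homOfLE hWU).op g) ↔ _
      rw [Scheme.basicOpen_res]
      exact Iff.rfl
    -- outside the piece's open
    have h₁ : Reach P (W₁ ⊔ O) := by
      refine ih hl hW hWU (by rw [Opens.coe_sup]; exact hW₁.isCompact.union hO) (fun x hx hxO => ?_) ?_
      · rw [Opens.mem_sup, not_or] at hxO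
        obtain ⟨p', hp', h1, h2⟩ := hcov x hx hxO.2
        rcases List.mem_cons.1 hp' with rfl | hp'
        · exact absurd ((hW₁g x).2 ⟨hx, h2⟩) hxO.1
        · exact ⟨p', hp', h1, h2⟩
      · rwa [← sup_assoc, sup_eq_left.2 hW₁W]
    -- the piece
    obtain ⟨G, hG⟩ := hq
    replace hG : Ideal.span (↑G : Set Γ(X, U)) = q := hG
    have hW₁U : W₁ ≤ U := hW₁W.trans hWU
    let ρ₁ := X.presheaf.map (homOfLE hW₁U).op
    let B : Γ(X, U) → X.Opens := fun b => X.basicOpen (ρ₁ b)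
    let O' : X.Opens := O ⊔ G.sup B
    have hB : ∀ b, IsCompact ((B b : X.Opens) : Set X) := fun b => (hW₁.basicOpen _).isCompact
    have hO' : ∀ s : Finset Γ(X, U), IsCompact ((O ⊔ s.sup B : X.Opens) : Set X) := fun s => by
      rw [Opens.coe_sup, Opens.coe_finset_sup, Finset.sup_set_eq_biUnion]
      exact hO.union (s.isCompact_biUnion fun b _ => hB b)
    have h₂ : Reach P O' := by
      obtain ⟨K, hK, hKV⟩ := exists_fg_ideal_compl hW₁ (hO' G)
      let J : Ideal Γ(X, W₁) := q.map ρ₁.hom ⊔ K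
      refine reach_step hW₁ J (Submodule.FG.sup (Ideal.FG.map ⟨G, hG⟩ _) hK) (hO' G) (fun x hx => ?_)
        (fun {Z} h e he => ?_) ?_
      · have hsup : X.zeroLocus (U := W₁) (J : Set Γ(X, W₁)) =
            X.zeroLocus (U := W₁) ((q.map ρ₁.hom : Ideal Γ(X, W₁)) : Set Γ(X, W₁)) ∩ X.zeroLocus (U := W₁) (K : Set Γ(X, W₁)) := by
          rw [show J = Ideal.span (((q.map ρ₁.hom : Ideal Γ(X, W₁)) : Set Γ(X, W₁)) ∪ (K : Set Γ(X, W₁))) by
            rw [Ideal.span_union, Ideal.span_eq, Ideal.span_eq]]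
          rw [Scheme.zeroLocus_span]
          ext y
          simp only [Scheme.mem_zeroLocus_iff, Set.mem_inter_iff, Set.mem_union]
          exact ⟨fun h => ⟨fun f hf => h f (Or.inl hf), fun f hf => h f (Or.inr hf)⟩,
            fun ⟨h1, h2⟩ f hf => hf.elim (h1 f) (h2 f)⟩
        rw [hsup, Set.mem_inter_iff, hKV x hx]
        refine ⟨fun h => h.2, fun hxO' => ⟨?_, hxO'⟩⟩
        rw [← hG, Ideal.map_span, Scheme.zeroLocus_span, Scheme.mem_zeroLocus_iff]
        rintro _ ⟨b, hb, rfl⟩ hxb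
        exact hxO' (Opens.mem_sup.2 (Or.inr ((Finset.le_sup (f := B) hb) hxb)))
      · refine hqg (CommRingCat.of (Γ(X, W₁) ⧸ J)) (ρ₁ ≫ CommRingCat.ofHom (Ideal.Quotient.mk J)) (fun a ha => ?_) ?_ h e ?_
        · rw [CommRingCat.comp_apply]
          exact Ideal.Quotient.eq_zero_iff_mem.2 (Ideal.mem_sup_left (Ideal.mem_map_of_mem _ ha))
        · rw [CommRingCat.comp_apply]
          refine IsUnit.map _ ?_
          show IsUnit (X.presheaf.map (homOfLE hW₁U).op g)
          rw [show (homOfLE hW₁U).op = (homOfLE hWU).op ≫ (homOfLE hW₁W).op from rfl, Functor.map_comp,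
            CommRingCat.comp_apply]
          exact X.toRingedSpace.isUnit_res_basicOpen (ρ g)
        · rw [he, Spec.map_comp, Category.assoc, hU.map_fromSpec hW₁]
      · have hle : (G.sup B : X.Opens) ≤ W₁ := Finset.sup_le fun b _ => X.basicOpen_le _
        rw [show W₁ ⊔ O' = W₁ ⊔ O by
          show W₁ ⊔ (O ⊔ G.sup B) = W₁ ⊔ O
          rw [← sup_assoc]; exact sup_eq_left.2 (hle.trans le_sup_left)]
        exact h₁
    -- the part off the zero locus of `q`
    suffices H : ∀ s : Finset Γ(X, U), s ⊆ G → Reach P (O ⊔ s.sup B) → Reach P O from H G subset_rfl h₂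
    intro s
    induction s using Finset.induction_on with
    | empty => intro _ h; simpa using h
    | insert b s _ ihs =>
      intro hs h
      refine ihs (fun x hx => hs (Finset.mem_insert_of_mem hx)) ?_
      refine ih hl (hW₁.basicOpen (ρ₁ b)) ((X.basicOpen_le _).trans hW₁U) (hO' s) (fun x hx hxO => ?_) ?_
      · have hx₁ : x ∈ W₁ := X.basicOpen_le _ hx
        have hxO₀ : x ∉ O := fun h => hxO (Opens.mem_sup.2 (Or.inl h))
        obtain ⟨p', hp', h1, h2⟩ := hcov x (hW₁W hx₁) hxO₀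
        rcases List.mem_cons.1 hp' with rfl | hp'
        · exfalso
          rw [Scheme.basicOpen_res] at hx
          exact (Scheme.mem_zeroLocus_iff _ _ _).1 h1 b (hG ▸ Ideal.subset_span (hs (Finset.mem_insert_self b s))) hx.2
        · exact ⟨p', hp', h1, h2⟩
      · rw [Finset.sup_insert] at h
        rwa [show B b ⊔ (O ⊔ s.sup B) = O ⊔ (B b ⊔ s.sup B) by ac_rfl]

/-- A chain on the whole scheme from good pieces covering each affine open. -/
theorem reach_bot_of_pieces [CompactSpace X] [QuasiSeparatedSpace X]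
    (h : ∀ (U : X.Opens) (hU : IsAffineOpen U), ∃ l : List (Ideal Γ(X, U) × Γ(X, U)),
      (∀ p ∈ l, p.1.FG ∧ GoodPiece P hU p.1 p.2) ∧
      ∀ x ∈ U, ∃ p ∈ l, x ∈ X.zeroLocus (U := U) (p.1 : Set Γ(X, U)) ∧ x ∈ X.basicOpen p.2) :
    Reach P (⊥ : X.Opens) := by
  classical
  obtain ⟨s, hs⟩ := exists_affine_cover (X := X) (O := ⊤) isCompact_univ
  suffices H : ∀ t : Finset X.affineOpens, Reach P (t.sup fun U => U.1) → Reach P (⊥ : X.Opens) from
    H s (hs ▸ reach_top)
  intro t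
  induction t using Finset.induction_on with
  | empty => intro h; simpa using h
  | insert U t _ iht =>
    intro h'
    rw [Finset.sup_insert] at h'
    obtain ⟨l, hl, hcov⟩ := h U.1 U.2
    exact iht (reach_of_pieces U.2 l hl U.2 le_rfl isCompact_finset_sup (fun x hx _ => hcov x hx) h')

end Groth.Agent.SmoothStrat
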