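import Groth.Agent.SmoothStrat.Core
import Groth.Agent.SmoothStrat.Reach
import Groth.Agent.SmoothStrat.Model
import Groth.Prelude.Def_Mor2

/-!
# Pieces of the base over which a morphism has a smooth stratification after a finite free cover
-/

set_option autoImplicit false
set_option linter.style.haveILetI false
set_option backward.isDefEq.respectTransparency false
set_option backward.isDefEq.respectTransparency.types false
universe u

open CategoryTheory CategoryTheory.Limits AlgebraicGeometry TopologicalSpace TensorProduct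

namespace Groth.Agent.SmoothStrat

attribute [local instance] Algebra.TensorProduct.rightAlgebra

/-- After a radicial finite locally free surjection, the base change has a smooth stratification. -/
def HasSmoothStrat {X S : Scheme.{u}} (f : X ⟶ S) {Z : Scheme.{u}} (g : Z ⟶ S) : Prop :=
  ∃ (T : Scheme.{u}) (v : T ⟶ Z), Surjective v ∧ UniversallyInjective v ∧ Mor2.IsFinLocFree v ∧
    ∃ (t : ℕ) (J : Fin (t + 1) → (pullback f (v ≫ g)).IdealSheafData), Monotone J ∧ J (Fin.last t) = ⊤ ∧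
      ((J 0).support : Set ↑(pullback f (v ≫ g))) = Set.univ ∧
      (∀ i, ∀ O : (pullback f (v ≫ g)).affineOpens, ((J i).ideal O).FG) ∧
      ∀ i : Fin t, Smooth (FlatStrat.strat (J i.castSucc) (J i.succ) ≫ pullback.snd f (v ≫ g))

variable {X S : Scheme.{u}}

theorem basicOpen_appLE {X' Y : Scheme.{u}} (g : X' ⟶ Y) {U : Y.Opens} {W : X'.Opens} (e : W ≤ g ⁻¹ᵁ U)
    (s : Γ(Y, U)) : X'.basicOpen (g.appLE U W e s) = W ⊓ g ⁻¹ᵁ Y.basicOpen s := by
  rw [Scheme.Hom.appLE, CommRingCat.comp_apply, Scheme.basicOpen_res, Scheme.preimage_basicOpen]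

theorem smooth_pieceHom {X' : Scheme.{u}} {T : CommRingCat.{u}} (τ : X' ⟶ Spec T) {W : X'.Opens}
    (hW : IsAffineOpen W) (e : W ≤ τ ⁻¹ᵁ ⊤) (a : Γ(X', W)) (J : Ideal Γ(X', W))
    (hsm : letI := (τ.appLE ⊤ W e).hom.toAlgebra
      Sm Γ(Spec T, ⊤) Γ(X', W) J a) {Z : Scheme.{u}} (g : Z ⟶ X')
    (i : Spec (CommRingCat.of (Γ(X', X'.basicOpen a) ⧸ J.map (X'.presheaf.map (homOfLE (X'.basicOpen_le a)).op).hom)) ≅ Z)
    (hi : i.hom ≫ g = pieceHom (hW.basicOpen a) (J.map (X'.presheaf.map (homOfLE (X'.basicOpen_le a)).op).hom)) :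
    Smooth (g ≫ τ) := by
  let Wa := X'.basicOpen a
  have ea : Wa ≤ τ ⁻¹ᵁ ⊤ := (X'.basicOpen_le a).trans e
  let ρ := X'.presheaf.map (homOfLE (X'.basicOpen_le a)).op
  letI := (τ.appLE ⊤ W e).hom.toAlgebra
  letI : Algebra Γ(X', W) Γ(X', Wa) := ρ.hom.toAlgebra
  letI : Algebra Γ(Spec T, ⊤) Γ(X', Wa) := (τ.appLE ⊤ Wa ea).hom.toAlgebra
  haveI : IsScalarTower Γ(Spec T, ⊤) Γ(X', W) Γ(X', Wa) := IsScalarTower.of_algebraMap_eq' (by
    show (τ.appLE ⊤ Wa ea).hom = ρ.hom.comp (τ.appLE ⊤ W e).hom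
    rw [← CommRingCat.hom_comp, Scheme.Hom.appLE_map])
  haveI : IsLocalization.Away a Γ(X', Wa) := hW.isLocalization_basicOpen a
  have hs := (sm_iff_of_away J a Γ(X', Wa)).1 hsm
  let φ : Γ(Spec T, ⊤) ⟶ CommRingCat.of (Γ(X', Wa) ⧸ J.map ρ.hom) :=
    τ.appLE ⊤ Wa ea ≫ CommRingCat.ofHom (Ideal.Quotient.mk (J.map ρ.hom))
  haveI : Smooth (Spec.map φ) := by
    rw [HasRingHomProperty.Spec_iff (P := @Smooth)]
    exact (RingHom.smooth_algebraMap (R := Γ(Spec T, ⊤)) (S := Γ(X', Wa) ⧸ J.map (algebraMap Γ(X', W) Γ(X', Wa)))).2 hs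
  have h : i.hom ≫ g ≫ τ = Spec.map φ ≫ (isAffineOpen_top (Spec T)).fromSpec := by
    rw [← Category.assoc, hi, pieceHom, Category.assoc, ← IsAffineOpen.SpecMap_appLE_fromSpec τ (isAffineOpen_top _) (hW.basicOpen a) ea,
      ← Category.assoc, ← Spec.map_comp]
  haveI : IsOpenImmersion (isAffineOpen_top (Spec T)).fromSpec := inferInstance
  haveI : Smooth (i.hom ≫ g ≫ τ) := by rw [h]; infer_instance
  exact (MorphismProperty.cancel_left_of_respectsIso @Smooth i.hom (g ≫ τ)).1 inferInstance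

/-- One affine of the source: the stratification of its base change. -/
theorem reach_of_model {f : X ⟶ S} {U : S.Opens} (hU : IsAffineOpen U) {T : CommRingCat.{u}}
    (g : Spec T ⟶ S) (hg : ⊤ ≤ g ⁻¹ᵁ U)
    {R₀ : Type u} [CommRing R₀] [Algebra R₀ Γ(S, U)]
    {A₀ : Type u} [CommRing A₀] [Algebra R₀ A₀]
    {V : X.Opens} (hV : IsAffineOpen V) (hVU : V ≤ f ⁻¹ᵁ U)
    (e₀ : letI := (f.appLE U V hVU).hom.toAlgebra
      Γ(S, U) ⊗[R₀] A₀ ≃ₐ[Γ(S, U)] Γ(X, V))
    (T₀ : Set A₀) {O : X.Opens}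
    (hT₀ : ∀ x ∈ V, x ∈ X.zeroLocus (U := V)
      ((Ideal.span ((fun b => e₀ ((1 : Γ(S, U)) ⊗ₜ[R₀] b)) '' T₀) : Ideal Γ(X, V)) : Set Γ(X, V)) ↔ x ∉ O)
    {R : Type u} [CommRing R] [Algebra R₀ R] (ψ : R →+* Γ(Spec T, ⊤))
    (hψ : ψ.comp (algebraMap R₀ R) = (g.appLE U ⊤ hg).hom.comp (algebraMap R₀ Γ(S, U)))
    (hs : letI := ψ.toAlgebra
      Strat Γ(Spec T, ⊤) (Γ(Spec T, ⊤) ⊗[R] (R ⊗[R₀] A₀)) 1
        (((Ideal.span T₀).map (algebraMap A₀ (R ⊗[R₀] A₀))).map
          (algebraMap (R ⊗[R₀] A₀) (Γ(Spec T, ⊤) ⊗[R] (R ⊗[R₀] A₀)))))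
    [CompactSpace ↑(pullback f g)] [QuasiSeparatedSpace ↑(pullback f g)]
    (hO : IsCompact ((pullback.fst f g ⁻¹ᵁ O : (pullback f g).Opens) : Set ↑(pullback f g)))
    (h : Reach (fun {Z} (i : Z ⟶ pullback f g) => Smooth (i ≫ pullback.snd f g))
      (pullback.fst f g ⁻¹ᵁ (V ⊔ O))) :
    Reach (fun {Z} (i : Z ⟶ pullback f g) => Smooth (i ≫ pullback.snd f g)) (pullback.fst f g ⁻¹ᵁ O) := by
  let τ := pullback.snd f g
  let q := pullback.fst f g
  let W : (pullback f g).Opens := q ⁻¹ᵁ V ⊓ τ ⁻¹ᵁ ⊤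
  have hWV : W = q ⁻¹ᵁ V := by show q ⁻¹ᵁ V ⊓ τ ⁻¹ᵁ ⊤ = _; simp
  have hOT : IsAffineOpen (⊤ : (Spec T).Opens) := isAffineOpen_top _
  have hc : IsPullback q τ f g := IsPullback.of_hasPullback f g
  have hW : IsAffineOpen W := by
    haveI : IsAffine _ := hU
    haveI : IsAffine _ := hOT
    haveI : IsAffine _ := hV
    exact .of_isIso (Scheme.Hom.isPullback_resLE hc hg hVU (UY := W) rfl).isoPullback.hom
  have hpo := (isIso_pushoutSection_iff hc hg hVU (UY := W) rfl).mp
    (isIso_pushoutSection_of_isAffineOpen hc hg hVU rfl hU hOT hV)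
  let T' := Γ(Spec T, ⊤)
  letI : Algebra Γ(S, U) Γ(X, V) := (f.appLE U V hVU).hom.toAlgebra
  letI : Algebra Γ(S, U) T' := (g.appLE U ⊤ hg).hom.toAlgebra
  letI : Algebra Γ(X, V) Γ(pullback f g, W) := (q.appLE V W inf_le_left).hom.toAlgebra
  letI : Algebra T' Γ(pullback f g, W) := (τ.appLE ⊤ W inf_le_right).hom.toAlgebra
  letI : Algebra Γ(S, U) Γ(pullback f g, W) := (f.appLE U V hVU ≫ q.appLE V W inf_le_left).hom.toAlgebra
  haveI : IsScalarTower Γ(S, U) Γ(X, V) Γ(pullback f g, W) := .of_algebraMap_eq fun _ => rfl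
  haveI : IsScalarTower Γ(S, U) T' Γ(pullback f g, W) := .of_algebraMap_eq fun r => congr($(hpo.w).hom r)
  haveI hp1 : Algebra.IsPushout Γ(S, U) T' Γ(X, V) Γ(pullback f g, W) :=
    CommRingCat.isPushout_iff_isPushout.mp hpo.flip
  letI : Algebra R₀ T' := ((algebraMap Γ(S, U) T').comp (algebraMap R₀ Γ(S, U))).toAlgebra
  letI : Algebra R T' := ψ.toAlgebra
  haveI : IsScalarTower R₀ Γ(S, U) T' := .of_algebraMap_eq' rfl
  haveI : IsScalarTower R₀ R T' := .of_algebraMap_eq' hψ.symm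
  letI : Algebra R₀ Γ(X, V) := ((algebraMap Γ(S, U) Γ(X, V)).comp (algebraMap R₀ Γ(S, U))).toAlgebra
  haveI : IsScalarTower R₀ Γ(S, U) Γ(X, V) := .of_algebraMap_eq' rfl
  let ι₀ : A₀ →ₐ[R₀] Γ(X, V) := (e₀.toAlgHom.restrictScalars R₀).comp Algebra.TensorProduct.includeRight
  letI : Algebra A₀ Γ(X, V) := ι₀.toRingHom.toAlgebra
  haveI : IsScalarTower R₀ A₀ Γ(X, V) := .of_algebraMap_eq fun r => (ι₀.commutes r).symm
  haveI hp0 : Algebra.IsPushout R₀ Γ(S, U) A₀ Γ(X, V) :=
    Algebra.IsPushout.of_equiv (R' := Γ(S, U)) (S' := Γ(S, U) ⊗[R₀] A₀) e₀ rfl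
  letI : Algebra A₀ Γ(pullback f g, W) := ((algebraMap Γ(X, V) Γ(pullback f g, W)).comp ι₀.toRingHom).toAlgebra
  haveI : IsScalarTower A₀ Γ(X, V) Γ(pullback f g, W) := .of_algebraMap_eq' rfl
  letI : Algebra R₀ Γ(pullback f g, W) := ((algebraMap T' Γ(pullback f g, W)).comp (algebraMap R₀ T')).toAlgebra
  haveI : IsScalarTower R₀ T' Γ(pullback f g, W) := .of_algebraMap_eq' rfl
  haveI : IsScalarTower R₀ Γ(X, V) Γ(pullback f g, W) := .of_algebraMap_eq fun r => by
    show algebraMap T' Γ(pullback f g, W) (algebraMap Γ(S, U) T' (algebraMap R₀ Γ(S, U) r)) = _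
    rw [← IsScalarTower.algebraMap_apply, IsScalarTower.algebraMap_apply Γ(S, U) Γ(X, V) Γ(pullback f g, W)]
    rfl
  haveI : IsScalarTower R₀ A₀ Γ(pullback f g, W) := .of_algebraMap_eq fun r => by
    rw [IsScalarTower.algebraMap_apply R₀ Γ(X, V) Γ(pullback f g, W), ← ι₀.commutes r]
    rfl
  haveI hp2 : Algebra.IsPushout R₀ T' A₀ Γ(pullback f g, W) :=
    (Algebra.IsPushout.comp_iff R₀ Γ(S, U) (R' := A₀) (S' := Γ(X, V))).2 hp1
  let eW : T' ⊗[R] (R ⊗[R₀] A₀) ≃ₐ[T'] Γ(pullback f g, W) :=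
    (Algebra.TensorProduct.cancelBaseChange R₀ R T' T' A₀).trans (Algebra.IsPushout.equiv R₀ T' A₀ Γ(pullback f g, W))
  have hs' := hs.of_equiv eW
  have heW : ∀ b : A₀, eW ((1 : T') ⊗ₜ[R] ((1 : R) ⊗ₜ[R₀] b)) = algebraMap A₀ Γ(pullback f g, W) b := fun b => by
    simp only [eW, AlgEquiv.trans_apply, Algebra.TensorProduct.cancelBaseChange_tmul, one_smul,
      Algebra.IsPushout.equiv_tmul, map_one, one_mul]
  have key : Reach (fun {Z} (i : Z ⟶ pullback f g) => Smooth (i ≫ pullback.snd f g)) (q ⁻¹ᵁ O) := by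
    refine reach_of_strat (hU := hW) (R := T') hs' (fun a J hsm Z i e he => smooth_pieceHom τ hW inf_le_right a J hsm i e he)
      hO (fun x hx => ?_) ?_
    · rw [Ideal.map_map, Ideal.map_map, Ideal.map_span, Scheme.zeroLocus_span]
      have hxV : q x ∈ V := hx.1
      rw [show x ∉ q ⁻¹ᵁ O ↔ q x ∉ O from Iff.rfl, ← hT₀ (q x) hxV, Scheme.zeroLocus_span,
        Scheme.mem_zeroLocus_iff, Scheme.mem_zeroLocus_iff]
      have hb : ∀ b : A₀, x ∈ (pullback f g).basicOpen (eW ((1 : T') ⊗ₜ[R] ((1 : R) ⊗ₜ[R₀] b))) ↔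
          q x ∈ X.basicOpen (e₀ ((1 : Γ(S, U)) ⊗ₜ[R₀] b)) := fun b => by
        rw [heW, show algebraMap A₀ Γ(pullback f g, W) b =
          q.appLE V W inf_le_left (e₀ ((1 : Γ(S, U)) ⊗ₜ[R₀] b)) from rfl, basicOpen_appLE]
        exact ⟨fun h => h.2, fun h => ⟨hx, h⟩⟩
      constructor
      · rintro h' _ ⟨b, hb', rfl⟩ hxb
        exact h' _ ⟨b, hb', rfl⟩ ((hb b).2 hxb)
      · rintro h' _ ⟨b, hb', rfl⟩ hxb
        exact h' _ ⟨b, hb', rfl⟩ ((hb b).1 hxb)
    · rw [hWV]
      exact h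
  exact key

/-- Finitely many good pieces cover every affine open of the base. -/
theorem exists_pieces (f : X ⟶ S) [LocallyOfFinitePresentation f] [QuasiCompact f] [QuasiSeparated f]
    {U : S.Opens} (hU : IsAffineOpen U) :
    ∃ l : List (Ideal Γ(S, U) × Γ(S, U)), (∀ p ∈ l, p.1.FG ∧ GoodPiece (fun {Z} => HasSmoothStrat f (Z := Z)) hU p.1 p.2) ∧
      ∀ x ∈ U, ∃ p ∈ l, x ∈ S.zeroLocus (U := U) (p.1 : Set Γ(S, U)) ∧ x ∈ S.basicOpen p.2 := by
  classical
  -- the cover of the preimage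
  obtain ⟨s, hs⟩ := exists_affine_cover (X := X) (O := f ⁻¹ᵁ U) (f.isCompact_preimage hU.isCompact)
  let n := s.toList.length
  let V : Fin n → X.affineOpens := fun i => s.toList.get i
  have hVs : ∀ i, V i ∈ s := fun i => Finset.mem_toList.1 (List.get_mem _ _)
  have hVU : ∀ i, (V i).1 ≤ f ⁻¹ᵁ U := fun i => by
    rw [hs]
    exact Finset.le_sup (f := fun U : X.affineOpens => U.1) (hVs i)
  let O : ℕ → X.Opens := fun k => (Finset.univ.filter fun i : Fin n => i.val < k).sup fun i => (V i).1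
  have hOc : ∀ k, IsCompact ((O k : X.Opens) : Set X) := fun k => by
    show IsCompact (((Finset.univ.filter fun i : Fin n => i.val < k).sup fun i => (V i).1 : X.Opens) : Set X)
    rw [Opens.coe_finset_sup, Finset.sup_set_eq_biUnion]
    exact Finset.isCompact_biUnion _ fun i _ => (V i).2.isCompact
  have hOU : ∀ k, O k ≤ f ⁻¹ᵁ U := fun k => Finset.sup_le fun i _ => hVU i
  have hqs : IsQuasiSeparated ((f ⁻¹ᵁ U : X.Opens) : Set X) := f.isQuasiSeparated_preimage hU.isQuasiSeparated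
  have hideals : ∀ i, ∃ K : Ideal Γ(X, (V i).1), K.FG ∧
      ∀ x ∈ (V i).1, x ∈ X.zeroLocus (U := (V i).1) (K : Set Γ(X, (V i).1)) ↔ x ∉ O i := fun i =>
    exists_fg_ideal_compl' (V i).2 (hqs _ _ (hVU i) (V i).1.2 (V i).2.isCompact (hOU _) (O i).2 (hOc _))
  choose K hKfg hK using hideals
  choose G hG using hKfg
  letI : ∀ i, Algebra Γ(S, U) Γ(X, (V i).1) := fun i => (f.appLE U (V i).1 (hVU i)).hom.toAlgebra
  haveI : ∀ i, Algebra.FinitePresentation Γ(S, U) Γ(X, (V i).1) := fun i =>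
    f.finitePresentation_appLE hU (V i).2 (hVU i)
  choose c hc using fun i => exists_coeffs Γ(S, U) Γ(X, (V i).1) (G i)
  let R₀ : Subalgebra ℤ Γ(S, U) := Algebra.adjoin ℤ ((Finset.univ.biUnion c : Finset Γ(S, U)) : Set Γ(S, U))
  haveI : Algebra.FiniteType ℤ R₀ := (Subalgebra.fg_iff_finiteType R₀).1 (Subalgebra.fg_adjoin_finset _)
  haveI : IsNoetherianRing R₀ := Algebra.FiniteType.isNoetherianRing ℤ R₀
  choose A₀ iA iAlg hft e₀ T₀ hT₀ using fun i => hc i R₀ fun x hx =>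
    Algebra.subset_adjoin (Finset.mem_coe.2 (Finset.mem_biUnion.2 ⟨i, Finset.mem_univ i, hx⟩))
  letI : ∀ i, CommRing (A₀ i) := iA
  letI : ∀ i, Algebra R₀ (A₀ i) := iAlg
  haveI : ∀ i, Algebra.FiniteType R₀ (A₀ i) := hft
  -- pieces by Noetherian induction on the model of the base
  suffices H : ∀ I : Ideal R₀, ∃ l : List (Ideal Γ(S, U) × Γ(S, U)),
      (∀ p ∈ l, p.1.FG ∧ GoodPiece (fun {Z} => HasSmoothStrat f (Z := Z)) hU p.1 p.2) ∧
      ∀ x ∈ U, x ∈ S.zeroLocus (U := U) ((I.map (algebraMap R₀ Γ(S, U)) : Ideal Γ(S, U)) : Set Γ(S, U)) →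
        ∃ p ∈ l, x ∈ S.zeroLocus (U := U) (p.1 : Set Γ(S, U)) ∧ x ∈ S.basicOpen p.2 by
    obtain ⟨l, hl, hcov⟩ := H ⊥
    refine ⟨l, hl, fun x hx => hcov x hx ?_⟩
    rw [Ideal.map_bot, Scheme.mem_zeroLocus_iff]
    intro a ha hxa
    rw [Submodule.bot_coe, Set.mem_singleton_iff] at ha
    rw [ha, Scheme.basicOpen_zero] at hxa
    exact hxa
  intro I
  induction I using WellFoundedGT.induction with
  | ind I ih =>
    rcases eq_or_ne I ⊤ with rfl | hI
    · refine ⟨[], fun p hp => absurd hp List.not_mem_nil, fun x hx h => ?_⟩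
      rw [Ideal.map_top, Scheme.mem_zeroLocus_iff] at h
      refine absurd ?_ (h 1 Submodule.mem_top)
      rw [Scheme.basicOpen_of_isUnit _ isUnit_one]
      exact hx
    by_cases hprime : I.IsPrime
    swap
    · obtain ⟨a, ha, b, hb, hab⟩ : ∃ a ∉ I, ∃ b ∉ I, a * b ∈ I := by
        by_contra hn
        push Not at hn
        exact hprime ⟨hI, fun {x y} hxy => by
          by_contra h
          push Not at h
          exact hn x h.1 y h.2 hxy⟩
      have hlt : ∀ a ∉ I, I < I ⊔ Ideal.span {a} := fun a ha => lt_of_le_of_ne le_sup_left fun he =>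
        ha (he.symm ▸ Ideal.mem_sup_right (Ideal.mem_span_singleton_self a))
      obtain ⟨l₁, hl₁, hc₁⟩ := ih _ (hlt a ha)
      obtain ⟨l₂, hl₂, hc₂⟩ := ih _ (hlt b hb)
      refine ⟨l₁ ++ l₂, fun p hp => (List.mem_append.1 hp).elim (hl₁ p) (hl₂ p), fun x hx h => ?_⟩
      have hor : x ∉ S.basicOpen (algebraMap R₀ Γ(S, U) a) ∨ x ∉ S.basicOpen (algebraMap R₀ Γ(S, U) b) := by
        by_contra hn
        push Not at hn
        rw [Scheme.mem_zeroLocus_iff] at h
        refine h _ (Ideal.mem_map_of_mem _ hab) ?_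
        rw [map_mul, Scheme.basicOpen_mul]
        exact hn
      rcases hor with ha' | hb'
      · obtain ⟨p, hp, h'⟩ := hc₁ x hx (by
          rw [Ideal.map_sup, Ideal.map_span, Set.image_singleton, zeroLocus_sup_span _ _ x hx]
          exact ⟨h, by simpa using ha'⟩)
        exact ⟨p, List.mem_append_left _ hp, h'⟩
      · obtain ⟨p, hp, h'⟩ := hc₂ x hx (by
          rw [Ideal.map_sup, Ideal.map_span, Set.image_singleton, zeroLocus_sup_span _ _ x hx]
          exact ⟨h, by simpa using hb'⟩)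
        exact ⟨p, List.mem_append_right _ hp, h'⟩
    -- a prime
    let R := R₀ ⧸ I
    haveI : IsDomain R := Ideal.Quotient.isDomain I
    let B₀ : Fin n → Type u := fun i => R ⊗[R₀] A₀ i
    letI : ∀ i, CommRing (B₀ i) := fun i => inferInstanceAs (CommRing (R ⊗[R₀] A₀ i))
    letI : ∀ i, Algebra R (B₀ i) := fun i => inferInstanceAs (Algebra R (R ⊗[R₀] A₀ i))
    haveI : ∀ i, Algebra.FiniteType R (B₀ i) := fun i => inferInstanceAs (Algebra.FiniteType R (R ⊗[R₀] A₀ i))
    letI : ∀ i, Algebra (A₀ i) (B₀ i) := fun i => inferInstanceAs (Algebra (A₀ i) (R ⊗[R₀] A₀ i))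
    let I₀ : ∀ i, Ideal (B₀ i) := fun i => (Ideal.span (T₀ i)).map (algebraMap (A₀ i) (B₀ i))
    obtain ⟨R', _, _, cb, hfin, hcb, hcore⟩ := exists_core (R := R) B₀ I₀
    obtain ⟨c₀, rfl⟩ := Ideal.Quotient.mk_surjective cb
    have hc₀ : c₀ ∉ I := fun h => hcb (Ideal.Quotient.eq_zero_iff_mem.2 h)
    obtain ⟨l, hl, hcl⟩ := ih (I ⊔ Ideal.span {c₀}) (lt_of_le_of_ne le_sup_left fun he =>
      hc₀ (he.symm ▸ Ideal.mem_sup_right (Ideal.mem_span_singleton_self c₀)))
    refine ⟨(I.map (algebraMap R₀ Γ(S, U)), algebraMap R₀ Γ(S, U) c₀) :: l, fun p hp => ?_, fun x hx h => ?_⟩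
    · rcases List.mem_cons.1 hp with rfl | hp
      swap; · exact hl p hp
      refine ⟨Ideal.FG.map (IsNoetherian.noetherian I) _, ?_⟩
      intro D φ hφI hφc Z h e he
      letI : Algebra R D := (Ideal.Quotient.lift I (φ.hom.comp (algebraMap R₀ Γ(S, U)))
        (fun a ha => hφI _ (Ideal.mem_map_of_mem _ ha))).toAlgebra
      obtain ⟨hfree, hsurj, hrad, hstrat⟩ := hcore D hφc
      haveI := hfree
      let T : CommRingCat.{u} := CommRingCat.of (D ⊗[R] R')
      let ι : D ⟶ T := CommRingCat.ofHom (algebraMap D (D ⊗[R] R'))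
      let v : Spec T ⟶ Z := Spec.map ι ≫ e.hom
      have hvh : v ≫ h = Spec.map (φ ≫ ι) ≫ hU.fromSpec := by
        rw [Category.assoc, he, Spec.map_comp, Category.assoc]
      have hg : (⊤ : (Spec T).Opens) ≤ (v ≫ h) ⁻¹ᵁ U := fun p _ => by
        show (v ≫ h) p ∈ U
        rw [hvh, Scheme.Hom.comp_apply, ← SetLike.mem_coe, ← hU.range_fromSpec]
        exact Set.mem_range_self _
      have happ : (v ≫ h).appLE U ⊤ hg = φ ≫ ι ≫ (Scheme.ΓSpecIso T).inv := by
        have aux : ∀ (g : Spec T ⟶ S) (hg : ⊤ ≤ g ⁻¹ᵁ U), g = Spec.map (φ ≫ ι) ≫ hU.fromSpec →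
            g.appLE U ⊤ hg = φ ≫ ι ≫ (Scheme.ΓSpecIso T).inv := by
          rintro g hg rfl
          refine Spec.map_injective ?_
          rw [← cancel_mono hU.fromSpec, IsAffineOpen.SpecMap_appLE_fromSpec _ hU (isAffineOpen_top _),
            ← Category.assoc φ, Spec.map_comp, IsAffineOpen.fromSpec_top, Category.assoc, Category.assoc,
            Scheme.isoSpec_Spec_inv]
          simp only [Spec.map_comp, Category.assoc]
        exact aux _ hg hvh
      refine ⟨Spec T, v, ?_, ?_, ?_, ?_⟩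
      · haveI : Surjective (Spec.map ι) := ⟨hsurj⟩
        infer_instance
      · haveI : UniversallyInjective (Spec.map ι) :=
          (MorLib.RUH.universallyInjective_SpecMap_iff (algebraMap D (D ⊗[R] R'))).2 hrad
        exact MorphismProperty.comp_mem @UniversallyInjective _ _ inferInstance (MorphismProperty.of_isIso _ e.hom)
      · haveI : IsFinite (Spec.map ι) := (IsFinite.SpecMap_iff ι).2
          ((RingHom.finite_algebraMap (A := D) (B := D ⊗[R] R')).2 inferInstance)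
        haveI : Flat (Spec.map ι) := (HasRingHomProperty.Spec_iff (P := @Flat)).2
          ((RingHom.flat_algebraMap_iff (R := D) (S := D ⊗[R] R')).2 inferInstance)
        haveI : Module.FinitePresentation D (D ⊗[R] R') := Module.finitePresentation_of_projective D _
        haveI : LocallyOfFinitePresentation (Spec.map ι) := (HasRingHomProperty.Spec_iff (P := @LocallyOfFinitePresentation)).2
          ((RingHom.finitePresentation_algebraMap (A := D) (B := D ⊗[R] R')).2 inferInstance)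
        exact ⟨inferInstance, inferInstance, inferInstance⟩
      have hsnd : QuasiCompact (pullback.snd f (v ≫ h)) := inferInstance
      haveI : CompactSpace ↑(pullback f (v ≫ h)) := QuasiCompact.compactSpace_of_compactSpace (pullback.snd f (v ≫ h))
      haveI : QuasiSeparatedSpace ↑(pullback f (v ≫ h)) := quasiSeparatedSpace_of_quasiSeparated (pullback.snd f (v ≫ h))
      refine exists_fin_of_reach (P := fun {Z} (i : Z ⟶ pullback f (v ≫ h)) => Smooth (i ≫ pullback.snd f (v ≫ h))) ?_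
      let q := pullback.fst f (v ≫ h)
      suffices Hk : ∀ k ≤ n, Reach (fun {Z} (i : Z ⟶ pullback f (v ≫ h)) => Smooth (i ≫ pullback.snd f (v ≫ h)))
          (q ⁻¹ᵁ O k) by
        have h0 := Hk 0 (Nat.zero_le _)
        have : O 0 = ⊥ := by simp [O]
        rwa [this] at h0
      intro k hk
      induction hk using Nat.decreasingInduction with
      | self =>
        have htop : q ⁻¹ᵁ O n = ⊤ := by
          refine top_le_iff.1 fun p _ => ?_
          have hp : q p ∈ f ⁻¹ᵁ U := by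
            show f (pullback.fst f (v ≫ h) p) ∈ U
            rw [← Scheme.Hom.comp_apply, pullback.condition, Scheme.Hom.comp_apply]
            exact hg (trivial : pullback.snd f (v ≫ h) p ∈ (⊤ : (Spec T).Opens))
          rw [hs] at hp
          have hle : (s.sup fun U => U.1 : X.Opens) ≤ O n := Finset.sup_le fun W hW => by
            obtain ⟨i, hi⟩ := List.get_of_mem (Finset.mem_toList.2 hW)
            exact hi ▸ Finset.le_sup (f := fun i => (V i).1) (Finset.mem_filter.2 ⟨Finset.mem_univ i, i.2⟩)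
          exact hle hp
        rw [htop]
        exact reach_top
      | of_succ k hk ihk =>
        let i : Fin n := ⟨k, hk⟩
        let ψ : R →+* Γ(Spec T, ⊤) := (ι ≫ (Scheme.ΓSpecIso T).inv).hom.comp (algebraMap R D)
        letI : Algebra R Γ(Spec T, ⊤) := ψ.toAlgebra
        let φT : (D ⊗[R] R') →ₐ[R] Γ(Spec T, ⊤) :=
          { (Scheme.ΓSpecIso T).inv.hom with commutes' := fun r => rfl }
        have hstr := (hstrat i).tensor_map φT (by rw [map_one]; exact isUnit_one)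
        have hOcomp : IsCompact ((q ⁻¹ᵁ O k : (pullback f (v ≫ h)).Opens) : Set ↑(pullback f (v ≫ h))) := by
          have hcov : O k = (Finset.univ.filter fun i : Fin n => i.val < k).sup fun i => (V i).1 := rfl
          rw [hcov]
          have : ((q ⁻¹ᵁ (Finset.univ.filter fun i : Fin n => i.val < k).sup fun i => (V i).1 :
              (pullback f (v ≫ h)).Opens) : Set ↑(pullback f (v ≫ h))) =
              ⋃ j ∈ (Finset.univ.filter fun i : Fin n => i.val < k), ((q ⁻¹ᵁ (V j).1 : (pullback f (v ≫ h)).Opens) : Set ↑(pullback f (v ≫ h))) := by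
            show ⇑q ⁻¹' ((_ : X.Opens) : Set X) = _
            rw [Opens.coe_finset_sup, Finset.sup_set_eq_biUnion, Set.preimage_iUnion₂]
            rfl
          rw [this]
          refine Finset.isCompact_biUnion _ fun j _ => ?_
          have haff : IsAffineOpen (q ⁻¹ᵁ (V j).1 ⊓ pullback.snd f (v ≫ h) ⁻¹ᵁ ⊤) := by
            haveI : IsAffine _ := hU
            haveI : IsAffine _ := isAffineOpen_top (Spec T)
            haveI : IsAffine _ := (V j).2
            exact .of_isIso (Scheme.Hom.isPullback_resLE (IsPullback.of_hasPullback f (v ≫ h)) hg (hVU j)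
              (UY := q ⁻¹ᵁ (V j).1 ⊓ pullback.snd f (v ≫ h) ⁻¹ᵁ ⊤) rfl).isoPullback.hom
          simpa using haff.isCompact
        refine reach_of_model hU (v ≫ h) hg (R₀ := R₀) (R := R) (A₀ := A₀ i) (V i).2 (hVU i) (e₀ i) (T₀ i)
          (O := O k) ?_ ψ ?_ hstr hOcomp ?_
        · rw [hT₀ i]
          exact fun x hx => by rw [hG i]; exact hK i x hx
        · rw [happ]
          rfl
        · have : (V i).1 ⊔ O k = O (k + 1) := by
            have hins : (Finset.univ.filter fun j : Fin n => j.val < k + 1) =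
                insert i (Finset.univ.filter fun j : Fin n => j.val < k) := by
              ext j
              simp only [Finset.mem_filter, Finset.mem_univ, true_and, Finset.mem_insert, Fin.ext_iff, i]
              omega
            show _ = (Finset.univ.filter fun j : Fin n => j.val < k + 1).sup fun i => (V i).1
            rw [hins, Finset.sup_insert]
          rw [this]
          exact ihk
    · by_cases hxc : x ∈ S.basicOpen (algebraMap R₀ Γ(S, U) c₀)
      · exact ⟨_, List.mem_cons_self, h, hxc⟩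
      · obtain ⟨p, hp, h'⟩ := hcl x hx (by
          rw [Ideal.map_sup, Ideal.map_span, Set.image_singleton, zeroLocus_sup_span _ _ x hx]
          exact ⟨h, by simpa using hxc⟩)
        exact ⟨p, List.mem_cons_of_mem _ hp, h'⟩

end Groth.Agent.SmoothStrat
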