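import Mathlib

/-!
# Algebraic stratifications with smooth strata

For an algebra `B` over `R`, an element `c` of `R` and an ideal `I` of `B`, a stratification of
`V(I) ∩ D(c)` by pieces `V(J) ∩ D(c a)` which are smooth over `R`.
-/

set_option autoImplicit false
set_option linter.style.haveILetI false
set_option backward.isDefEq.respectTransparency false
set_option backward.isDefEq.respectTransparency.types false
universe u

namespace Groth.Agent.SmoothStrat

open TensorProduct

section

variable (R B : Type u) [CommRing R] [CommRing B] [Algebra R B]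

/-- The coordinate ring of `V(J) ∩ D(a)`. -/
def SQ (J : Ideal B) (a : B) : Type u :=
  Localization.Away a ⧸ J.map (algebraMap B (Localization.Away a))

noncomputable instance (J : Ideal B) (a : B) : CommRing (SQ B J a) :=
  inferInstanceAs (CommRing (Localization.Away a ⧸ _))

noncomputable instance (J : Ideal B) (a : B) : Algebra R (SQ B J a) :=
  inferInstanceAs (Algebra R (Localization.Away a ⧸ _))

instance {T : Type u} [CommRing T] [Algebra R T] [Algebra T B] [IsScalarTower R T B] (J : Ideal B) (a : B) :
    IsScalarTower R T (SQ B J a) :=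
  inferInstanceAs (IsScalarTower R T (Localization.Away a ⧸ _))

/-- `V(J) ∩ D(a)` is smooth over the base. -/
def Sm (J : Ideal B) (a : B) : Prop := Algebra.Smooth R (SQ B J a)

/-- A stratification of `V(I) ∩ D(c)` with smooth strata. -/
inductive Strat (c : R) : Ideal B → Prop
  | top {I : Ideal B} : algebraMap R B c ∈ I.radical → Strat c I
  | step {I : Ideal B} (a : B) (J : Ideal B) : J.FG → I ≤ J →
      (∀ x ∈ J, algebraMap R B c * a * x ∈ I.radical) → Sm R B J (algebraMap R B c * a) →
      Strat c (I ⊔ Ideal.span {a}) → Strat c I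

end

variable {R B : Type u} [CommRing R] [CommRing B] [Algebra R B]

theorem sm_iff_of_away (J : Ideal B) (a : B) (W : Type u) [CommRing W] [Algebra B W] [Algebra R W]
    [IsScalarTower R B W] [IsLocalization.Away a W] :
    Sm R B J a ↔ Algebra.Smooth R (W ⧸ J.map (algebraMap B W)) := by
  let e : Localization.Away a ≃ₐ[R] W :=
    (IsLocalization.algEquiv (Submonoid.powers a) (Localization.Away a) W).restrictScalars R
  have he : (e : Localization.Away a →+* W).comp (algebraMap B (Localization.Away a)) = algebraMap B W :=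
    RingHom.ext fun b => (IsLocalization.algEquiv (Submonoid.powers a) (Localization.Away a) W).commutes b
  let q : SQ B J a ≃ₐ[R] W ⧸ J.map (algebraMap B W) := Ideal.quotientEquivAlg _ _ e (by
    rw [Ideal.map_map]
    exact congrArg (fun φ : B →+* W => J.map φ) he.symm)
  exact ⟨fun h => by haveI : Algebra.Smooth R (SQ B J a) := h; exact Algebra.Smooth.of_equiv q,
    fun h => by haveI := h; exact Algebra.Smooth.of_equiv q.symm⟩

theorem smooth_quot_away {A₁ A₂ : Type u} [CommRing A₁] [CommRing A₂] [Algebra R A₁] [Algebra R A₂]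
    [Algebra A₁ A₂] [IsScalarTower R A₁ A₂] (x : A₁) [IsLocalization.Away x A₂] (I₁ : Ideal A₁) (I₂ : Ideal A₂)
    (hI : I₁.map (algebraMap A₁ A₂) = I₂) [Algebra.Smooth R (A₁ ⧸ I₁)] : Algebra.Smooth R (A₂ ⧸ I₂) := by
  have hle : I₁ ≤ I₂.comap (algebraMap A₁ A₂) := Ideal.map_le_iff_le_comap.1 hI.le
  letI : Algebra (A₁ ⧸ I₁) (A₂ ⧸ I₂) := (Ideal.quotientMap I₂ (algebraMap A₁ A₂) hle).toAlgebra
  haveI : IsScalarTower R (A₁ ⧸ I₁) (A₂ ⧸ I₂) := IsScalarTower.of_algebraMap_eq fun r => by
    show algebraMap R (A₂ ⧸ I₂) r = Ideal.quotientMap I₂ (algebraMap A₁ A₂) hle (Ideal.Quotient.mk I₁ (algebraMap R A₁ r))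
    rw [Ideal.quotientMap_mk, ← IsScalarTower.algebraMap_apply]
    rfl
  haveI : IsLocalization.Away (Ideal.Quotient.mk I₁ x) (A₂ ⧸ I₂) := by
    simp only [IsLocalization.Away, ← Submonoid.map_powers]
    refine IsLocalization.of_surjective _ _ _ Ideal.Quotient.mk_surjective _ Ideal.Quotient.mk_surjective ?_ ?_
    · rfl
    · rw [Ideal.mk_ker, Ideal.mk_ker, hI]
  haveI : Algebra.Smooth (A₁ ⧸ I₁) (A₂ ⧸ I₂) :=
    Algebra.Smooth.of_isLocalization_Away (Ideal.Quotient.mk I₁ x)
  exact Algebra.Smooth.comp R (A₁ ⧸ I₁) (A₂ ⧸ I₂)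

theorem sm_mul {J : Ideal B} {a : B} (h : Sm R B J a) (e : B) : Sm R B J (a * e) := by
  let A₂ := Localization.Away (algebraMap B (Localization.Away a) e)
  haveI : IsLocalization.Away (a * e) A₂ := IsLocalization.Away.mul' (Localization.Away a) A₂ a e
  rw [sm_iff_of_away J (a * e) A₂]
  haveI : Algebra.Smooth R (Localization.Away a ⧸ J.map (algebraMap B (Localization.Away a))) := h
  exact smooth_quot_away (algebraMap B (Localization.Away a) e) (J.map (algebraMap B (Localization.Away a))) _
    (by rw [Ideal.map_map, ← IsScalarTower.algebraMap_eq])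

theorem sm_of_isUnit_mul {J : Ideal B} {u a : B} (hu : IsUnit u) (h : Sm R B J (u * a)) : Sm R B J a := by
  obtain ⟨v, hv⟩ := hu.exists_left_inv
  have h1 := sm_mul h v
  rwa [show u * a * v = (v * u) * a by ring, hv, one_mul] at h1

section BaseChange

variable {T B' : Type u} [CommRing T] [CommRing B'] [Algebra R T] [Algebra T B'] [Algebra B B']
  [Algebra R B'] [IsScalarTower R T B'] [IsScalarTower R B B'] [Algebra.IsPushout R T B B']

/-- The coordinate ring of a piece commutes with base change. -/
theorem nonempty_sqEquiv (J : Ideal B) (a : B) :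
    Nonempty (T ⊗[R] SQ B J a ≃ₐ[T] SQ B' (J.map (algebraMap B B')) (algebraMap B B' a)) := by
  let a' := algebraMap B B' a
  let J' := J.map (algebraMap B B')
  let C := SQ B J a
  let C' := SQ B' J' a'
  let g₀ : B →ₐ[R] C' :=
    (((Ideal.Quotient.mkₐ T (J'.map (algebraMap B' (Localization.Away a')))).comp
      (IsScalarTower.toAlgHom T B' (Localization.Away a'))).restrictScalars R).comp (IsScalarTower.toAlgHom R B B')
  have hg₀ : ∀ y : Submonoid.powers a, IsUnit (g₀ y) := by
    rintro ⟨_, n, rfl⟩
    show IsUnit (g₀ (a ^ n))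
    rw [map_pow]
    exact ((IsLocalization.Away.algebraMap_isUnit (S := Localization.Away a') a').map
      (Ideal.Quotient.mk (J'.map (algebraMap B' (Localization.Away a'))))).pow n
  let g₁ : Localization.Away a →ₐ[R] C' :=
    IsLocalization.liftAlgHom (M := Submonoid.powers a) (S := Localization.Away a) (f := g₀) hg₀
  have hg₁ : ∀ b : B, g₁ (algebraMap B _ b) = g₀ b := fun b => IsLocalization.lift_eq hg₀ b
  let g : C →ₐ[R] C' := Ideal.Quotient.liftₐ _ g₁ (by
    intro x hx
    have hle : J.map (algebraMap B (Localization.Away a)) ≤ RingHom.ker g₁.toRingHom := by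
      rw [Ideal.map_le_iff_le_comap]
      intro j hj
      rw [Ideal.mem_comap, RingHom.mem_ker]
      show g₁ (algebraMap B _ j) = 0
      rw [hg₁]
      exact Ideal.Quotient.eq_zero_iff_mem.2 (Ideal.mem_map_of_mem _ (Ideal.mem_map_of_mem _ hj))
    exact hle hx)
  let fwd : T ⊗[R] C →ₐ[T] C' := Algebra.TensorProduct.lift (Algebra.ofId T C') g (fun _ _ => mul_comm _ _)
  let q : B →ₐ[R] C := (Ideal.Quotient.mkₐ R _).comp (IsScalarTower.toAlgHom R B (Localization.Away a))
  let h₀ : B' →ₐ[T] T ⊗[R] C :=
    (Algebra.TensorProduct.map (AlgHom.id T T) q).comp (Algebra.IsPushout.equiv R T B B').symm.toAlgHom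
  have hh₀ : ∀ b : B, h₀ (algebraMap B B' b) = (1 : T) ⊗ₜ[R] q b := fun b => by
    show Algebra.TensorProduct.map (AlgHom.id T T) q ((Algebra.IsPushout.equiv R T B B').symm (algebraMap B B' b)) = _
    rw [Algebra.IsPushout.equiv_symm_algebraMap_right]
    rfl
  have hh₀' : ∀ y : Submonoid.powers a', IsUnit (h₀ y) := by
    rintro ⟨_, n, rfl⟩
    show IsUnit (h₀ (algebraMap B B' a ^ n))
    rw [map_pow, hh₀]
    exact (((IsLocalization.Away.algebraMap_isUnit (S := Localization.Away a) a).map
      (Ideal.Quotient.mk _)).map (Algebra.TensorProduct.includeRight : C →ₐ[R] T ⊗[R] C)).pow n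
  let h₁ : Localization.Away a' →ₐ[T] T ⊗[R] C :=
    IsLocalization.liftAlgHom (M := Submonoid.powers a') (S := Localization.Away a') (f := h₀) hh₀'
  have hh₁ : ∀ b : B', h₁ (algebraMap B' _ b) = h₀ b := fun b => IsLocalization.lift_eq hh₀' b
  let bwd : C' →ₐ[T] T ⊗[R] C := Ideal.Quotient.liftₐ _ h₁ (by
    intro x hx
    have hle : J'.map (algebraMap B' (Localization.Away a')) ≤ RingHom.ker h₁.toRingHom := by
      rw [Ideal.map_le_iff_le_comap, Ideal.map_le_iff_le_comap]
      intro j hj
      rw [Ideal.mem_comap, Ideal.mem_comap, RingHom.mem_ker]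
      show h₁ (algebraMap B' _ (algebraMap B B' j)) = 0
      rw [hh₁, hh₀]
      show (1 : T) ⊗ₜ[R] (Ideal.Quotient.mk _ (algebraMap B (Localization.Away a) j)) = 0
      rw [Ideal.Quotient.eq_zero_iff_mem.2 (Ideal.mem_map_of_mem _ hj), TensorProduct.tmul_zero]
    exact hle hx)
  refine ⟨AlgEquiv.ofAlgHom fwd bwd ?_ ?_⟩
  · refine Ideal.Quotient.algHom_ext _ (IsLocalization.algHom_ext (Submonoid.powers a') (AlgHom.ext fun b => ?_))
    show fwd (h₁ (algebraMap B' (Localization.Away a') b)) = Ideal.Quotient.mk _ (algebraMap B' (Localization.Away a') b)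
    rw [hh₁]
    obtain ⟨z, rfl⟩ := (Algebra.IsPushout.equiv R T B B').surjective b
    induction z using TensorProduct.induction_on with
    | zero => simp
    | add x y hx hy => simp only [map_add, hx, hy]
    | tmul t b =>
      show fwd (Algebra.TensorProduct.map (AlgHom.id T T) q
        ((Algebra.IsPushout.equiv R T B B').symm ((Algebra.IsPushout.equiv R T B B') (t ⊗ₜ[R] b)))) = _
      rw [AlgEquiv.symm_apply_apply, Algebra.IsPushout.equiv_tmul, map_mul, map_mul,
        Algebra.TensorProduct.map_tmul]
      show algebraMap T C' t * g₁ (algebraMap B _ b) = _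
      rw [hg₁]
      rfl
  · refine Algebra.TensorProduct.ext (AlgHom.ext fun t => ?_) (Ideal.Quotient.algHom_ext _
      (IsLocalization.algHom_ext (Submonoid.powers a) (AlgHom.ext fun b => ?_)))
    · show bwd (fwd (t ⊗ₜ[R] (1 : C))) = t ⊗ₜ[R] (1 : C)
      simp only [fwd, Algebra.TensorProduct.lift_tmul, map_one, mul_one, Algebra.ofId_apply, AlgHom.commutes]
      rfl
    · show bwd (fwd ((1 : T) ⊗ₜ[R] Ideal.Quotient.mk _ (algebraMap B (Localization.Away a) b))) =
        (1 : T) ⊗ₜ[R] Ideal.Quotient.mk _ (algebraMap B (Localization.Away a) b)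
      simp only [fwd, Algebra.TensorProduct.lift_tmul, map_one, one_mul]
      show bwd (g₁ (algebraMap B _ b)) = _
      rw [hg₁]
      show h₁ (algebraMap B' _ (algebraMap B B' b)) = _
      rw [hh₁, hh₀]
      rfl

theorem sm_baseChange {J : Ideal B} {a : B} (h : Sm R B J a) :
    Sm T B' (J.map (algebraMap B B')) (algebraMap B B' a) := by
  obtain ⟨e⟩ := nonempty_sqEquiv (R := R) (B := B) (T := T) (B' := B') J a
  haveI : Algebra.Smooth R (SQ B J a) := h
  exact Algebra.Smooth.of_equiv e

/-- Base change of a stratification, shrinking the open. -/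
theorem Strat.baseChange {c : R} {I : Ideal B} (h : Strat R B c I) {d : T} (hd : algebraMap R T c ∣ d) :
    Strat T B' d (I.map (algebraMap B B')) := by
  obtain ⟨e, rfl⟩ := hd
  have hc : algebraMap T B' (algebraMap R T c * e) = algebraMap B B' (algebraMap R B c) * algebraMap T B' e := by
    rw [map_mul, ← IsScalarTower.algebraMap_apply, ← IsScalarTower.algebraMap_apply]
  induction h with
  | @top I hI =>
    refine .top ?_
    rw [hc]
    exact Ideal.mul_mem_right _ _ (Ideal.map_radical_le (algebraMap B B') (Ideal.mem_map_of_mem _ hI))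
  | @step I a J hJ hIJ hrad hsm _ ih =>
    refine .step (algebraMap B B' a) (J.map (algebraMap B B')) (hJ.map _) (Ideal.map_mono hIJ) ?_ ?_ ?_
    · intro x hx
      rw [hc, show algebraMap B B' (algebraMap R B c) * algebraMap T B' e * algebraMap B B' a * x =
        algebraMap T B' e * (algebraMap B B' (algebraMap R B c * a) * x) by rw [map_mul]; ring]
      refine Ideal.mul_mem_left _ _ ?_
      have hle : J.map (algebraMap B B') ≤
          Submodule.colon (I.map (algebraMap B B')).radical {algebraMap B B' (algebraMap R B c * a)} := by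
        rw [Ideal.map_le_iff_le_comap]
        intro j hj
        rw [Ideal.mem_comap, Submodule.mem_colon_singleton, smul_eq_mul, mul_comm, ← map_mul]
        exact Ideal.map_radical_le (algebraMap B B') (Ideal.mem_map_of_mem _ (hrad j hj))
      have h2 := hle hx
      rw [Submodule.mem_colon_singleton, smul_eq_mul, mul_comm] at h2
      exact h2
    · have h2 := sm_mul (sm_baseChange (R := R) (B := B) (T := T) (B' := B') hsm) (algebraMap T B' e)
      rw [hc, show algebraMap B B' (algebraMap R B c) * algebraMap T B' e * algebraMap B B' a =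
        algebraMap B B' (algebraMap R B c * a) * algebraMap T B' e by rw [map_mul]; ring]
      exact h2
    · rw [Ideal.map_sup, Ideal.map_span, Set.image_singleton] at ih
      exact ih

/-- Base change of a stratification to a ring where the element is invertible. -/
theorem Strat.baseChange_one {c : R} {I : Ideal B} (h : Strat R B c I) (hc : IsUnit (algebraMap R T c)) :
    Strat T B' 1 (I.map (algebraMap B B')) :=
  h.baseChange hc.dvd

end BaseChange

/-- Invariance of stratifications under isomorphisms. -/
theorem Strat.of_equiv {B₂ : Type u} [CommRing B₂] [Algebra R B₂] (e : B ≃ₐ[R] B₂) {c : R} {I : Ideal B}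
    (h : Strat R B c I) : Strat R B₂ c (I.map e.toAlgHom.toRingHom) := by
  letI : Algebra B B₂ := e.toAlgHom.toRingHom.toAlgebra
  haveI : IsScalarTower R B B₂ := IsScalarTower.of_algebraMap_eq fun r => (e.commutes r).symm
  haveI : Algebra.IsPushout R R B B₂ := by
    refine ⟨IsBaseChange.ofEquiv e.toLinearEquiv⟩
  have h2 := h.baseChange (T := R) (B' := B₂) (d := c) (by rw [Algebra.algebraMap_self_apply])
  exact h2

end Groth.Agent.SmoothStrat
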