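import Groth.Agent.SmoothStrat.Alg
import Groth.Agent.FlatStrat.Sheaf

/-!
# Stratifications of a scheme by finitely generated ideal sheaves with prescribed affine strata

`Reach P O` says that the complement of the open `O` carries a chain of finitely generated ideal
sheaves all of whose strata satisfy `P`.
-/

set_option autoImplicit false
set_option linter.style.haveILetI false
set_option backward.isDefEq.respectTransparency false
set_option backward.isDefEq.respectTransparency.types false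
universe u

open CategoryTheory CategoryTheory.Limits AlgebraicGeometry TopologicalSpace

namespace Groth.Agent.SmoothStrat

variable {X : Scheme.{u}}

/-- One step of a chain. -/
def Step (P : ∀ {Z : Scheme.{u}}, (Z ⟶ X) → Prop) (I I' : X.IdealSheafData) : Prop :=
  I ≤ I' ∧ (∀ U : X.affineOpens, (I.ideal U).FG) ∧ P (FlatStrat.strat I I')

/-- The complement of `O` has a chain of strata with `P`. -/
def Reach (P : ∀ {Z : Scheme.{u}}, (Z ⟶ X) → Prop) (O : X.Opens) : Prop :=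
  ∃ L : X.IdealSheafData, (∀ U : X.affineOpens, (L.ideal U).FG) ∧ (∀ x, x ∈ L.support ↔ x ∉ O) ∧
    Relation.ReflTransGen (Step P) L ⊤

variable {P : ∀ {Z : Scheme.{u}}, (Z ⟶ X) → Prop}

theorem fg_top (U : X.affineOpens) : ((⊤ : X.IdealSheafData).ideal U).FG := by
  rw [Scheme.IdealSheafData.ideal_top]
  exact ⟨{1}, by rw [Finset.coe_singleton]; exact Ideal.span_singleton_one⟩

theorem reach_top : Reach P (⊤ : X.Opens) :=
  ⟨⊤, fg_top, fun x => by
    rw [Scheme.IdealSheafData.support_top]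
    exact ⟨fun h => absurd h id, fun h => absurd trivial h⟩, Relation.ReflTransGen.refl⟩

/-- The morphism of a closed subscheme of an affine open. -/
noncomputable abbrev pieceHom {W : X.Opens} (hW : IsAffineOpen W) (J : Ideal Γ(X, W)) :
    Spec (CommRingCat.of (Γ(X, W) ⧸ J)) ⟶ X :=
  Spec.map (CommRingCat.ofHom (Ideal.Quotient.mk J)) ≫ hW.fromSpec

theorem exists_affine_cover {O : X.Opens} (hO : IsCompact (O : Set X)) :
    ∃ s : Finset X.affineOpens, O = s.sup fun U => U.1 := by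
  obtain ⟨s, hs, he⟩ := isCompact_iff_finite_and_eq_biUnion_affineOpens.mp hO
  refine ⟨hs.toFinset, he.trans ?_⟩
  rw [Finset.sup_eq_iSup]
  simp only [Set.Finite.mem_toFinset]

theorem isCompact_finset_sup {s : Finset X.affineOpens} :
    IsCompact ((s.sup fun U => U.1 : X.Opens) : Set X) := by
  rw [Opens.coe_finset_sup, Finset.sup_set_eq_biUnion]
  exact s.isCompact_biUnion fun U _ => U.2.isCompact

theorem ideal_eq_of_support_disjoint (I : X.IdealSheafData) (U : X.affineOpens)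
    (h : ∀ x ∈ U.1, x ∉ I.support) : I.ideal U = ⊤ :=
  FlatStrat.ideal_eq_top_of_disjoint I U h

/-- An extension of an ideal on an affine open, trivial on another open. -/
theorem exists_extension [CompactSpace X] [QuasiSeparatedSpace X] {W : X.Opens} (hW : IsAffineOpen W)
    (J : Ideal Γ(X, W)) (hJ : J.FG) {O : X.Opens} (hO : IsCompact (O : Set X))
    (hdis : ∀ x ∈ W, x ∈ X.zeroLocus (U := W) (J : Set Γ(X, W)) → x ∉ O) :
    ∃ E : X.IdealSheafData, (∀ U, (E.ideal U).FG) ∧ E.ideal ⟨W, hW⟩ = J ∧ ∀ x ∈ O, x ∉ E.support := by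
  classical
  haveI : IsAffine (W : Scheme.{u}) := hW
  haveI : QuasiCompact W.ι := quasiCompact_of_compactSpace W.ι
  let B : (W : Scheme.{u}).IdealSheafData := Scheme.IdealSheafData.ofIdealTop (J.map W.topIso.inv.hom)
  let M : X.IdealSheafData := B.map W.ι
  have hpre : W.ι ⁻¹ᵁ W = ⊤ := W.ι_preimage_self
  have he : (W.topIso.inv ≫ (W : Scheme.{u}).presheaf.map (homOfLE (le_top : W.ι ⁻¹ᵁ W ≤ ⊤)).op) = W.ι.app W := by
    simp only [Scheme.Opens.topIso_inv, Scheme.Opens.ι_app, Scheme.Opens.toScheme_presheaf_map]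
    rw [← Functor.map_comp]
    rfl
  have hMW : M.ideal ⟨W, hW⟩ = J := by
    show (B.map W.ι).ideal ⟨W, hW⟩ = J
    have hpa : IsAffineOpen (W.ι ⁻¹ᵁ W) := by rw [hpre]; exact isAffineOpen_top _
    rw [Scheme.IdealSheafData.ideal_map B W.ι ⟨W, hW⟩ hpa, Scheme.IdealSheafData.ofIdealTop_ideal, Ideal.map_map,
      ← CommRingCat.hom_comp]
    rw [he]
    haveI : IsIso (W.ι.app W) := W.ι.isIso_app W (by rw [Scheme.Opens.opensRange_ι])
    exact Ideal.comap_map_of_bijective _ (ConcreteCategory.bijective_of_isIso (W.ι.app W))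
  obtain ⟨K₀, hK₀, hK₀fg, hJK₀⟩ := MorLib.IdealFG.exists_fg_le M ⟨W, hW⟩ J hJ hMW.ge
  have hMdis : ∀ x ∈ O, x ∉ M.support := by
    intro x hx hxM
    rw [show M.support = .closure (W.ι '' B.support) from Scheme.IdealSheafData.support_map B W.ι] at hxM
    have hsub : W.ι '' (B.support : Set ↥(W : Scheme.{u})) ⊆ ((O : Set X))ᶜ := by
      rintro _ ⟨y, hy, rfl⟩
      refine hdis _ y.2 ?_
      rw [Scheme.mem_zeroLocus_iff]
      intro j hj hyj
      have hy' := (Scheme.IdealSheafData.mem_support_iff_of_mem (U := ⟨W.ι ⁻¹ᵁ W, by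
        rw [hpre]; exact isAffineOpen_top _⟩) (show y ∈ W.ι ⁻¹ᵁ W from y.2)).1 hy
      rw [Scheme.mem_zeroLocus_iff] at hy'
      refine hy' (W.ι.app W j) ?_ ?_
      · rw [SetLike.mem_coe, Scheme.IdealSheafData.ofIdealTop_ideal, Ideal.map_map, ← CommRingCat.hom_comp]
        rw [he]
        exact Ideal.mem_map_of_mem _ hj
      · rw [← Scheme.preimage_basicOpen]
        exact hyj
    exact (closure_minimal hsub O.2.isClosed_compl hxM) hx
  obtain ⟨s, hs⟩ := exists_affine_cover hO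
  have hpieces : ∀ V : X.affineOpens, V ∈ s → ∃ K : X.IdealSheafData,
      K ≤ M ∧ (∀ U, (K.ideal U).FG) ∧ K.ideal V = ⊤ := by
    intro V hV
    have hVO : ∀ x ∈ V.1, x ∈ O := fun x hx => by
      rw [hs]
      exact (Finset.le_sup (f := fun U : X.affineOpens => U.1) hV) hx
    obtain ⟨K, hK, hKfg, htop⟩ := MorLib.IdealFG.exists_fg_le M V ⊤ ⟨{1}, by
      rw [Finset.coe_singleton]; exact Ideal.span_singleton_one⟩
      (ideal_eq_of_support_disjoint M V fun x hx => hMdis x (hVO x hx)).ge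
    exact ⟨K, hK, hKfg, top_le_iff.1 htop⟩
  choose! K hKM hKfg hKtop using hpieces
  let E : X.IdealSheafData := K₀ ⊔ s.sup K
  have hsup : s.sup K ≤ M ∧ ∀ U, ((s.sup K).ideal U).FG := by
    refine Finset.sup_induction (p := fun L : X.IdealSheafData => L ≤ M ∧ ∀ U, (L.ideal U).FG)
      ⟨bot_le, fun _ => Submodule.fg_bot⟩ ?_ fun V hV => ⟨hKM V hV, hKfg V hV⟩
    rintro a ⟨ha, ha'⟩ b ⟨hb, hb'⟩
    refine ⟨sup_le ha hb, fun U => ?_⟩
    simp only [Scheme.IdealSheafData.ideal_sup, Pi.sup_apply]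
    exact Submodule.FG.sup (ha' U) (hb' U)
  refine ⟨E, fun U => ?_, le_antisymm ?_ ?_, fun x hx hxE => ?_⟩
  · simp only [E, Scheme.IdealSheafData.ideal_sup, Pi.sup_apply]
    exact Submodule.FG.sup (hK₀fg U) (hsup.2 U)
  · exact (show E.ideal ⟨W, hW⟩ ≤ M.ideal ⟨W, hW⟩ from (sup_le hK₀ hsup.1 : E ≤ M) _).trans hMW.le
  · exact hJK₀.trans ((le_sup_left : K₀ ≤ E) _)
  · rw [hs] at hx
    obtain ⟨V, hV, hxV⟩ : ∃ V ∈ s, x ∈ V.1 := by
      have hx' : x ∈ ((s.sup fun U => U.1 : X.Opens) : Set X) := hx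
      rw [Opens.coe_finset_sup, Finset.sup_set_eq_biUnion] at hx'
      simpa using hx'
    have h1 : E.ideal V = ⊤ :=
      top_le_iff.1 ((hKtop V hV).ge.trans (((Finset.le_sup hV).trans le_sup_right : K V ≤ E) V))
    rw [Scheme.IdealSheafData.mem_support_iff_of_mem hxV, h1, Scheme.mem_zeroLocus_iff] at hxE
    refine hxE 1 Submodule.mem_top ?_
    rw [Scheme.basicOpen_of_isUnit _ isUnit_one]
    exact hxV

/-- The stratum contained in an affine open. -/
theorem exists_strat_iso (L L' : X.IdealSheafData) {W : X.Opens} (hW : IsAffineOpen W) (J : Ideal Γ(X, W))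
    (hJ : L.ideal ⟨W, hW⟩ = J) (hW' : ∀ x ∈ W, x ∉ L'.support)
    (hsub : ∀ x, x ∈ L.support → x ∉ L'.support → x ∈ W) :
    ∃ e : Spec (CommRingCat.of (Γ(X, W) ⧸ J)) ≅ ↑(L.subschemeι ⁻¹ᵁ L'.support.compl),
      e.hom ≫ FlatStrat.strat L L' = pieceHom hW J := by
  subst hJ
  let j : L.glueDataObj ⟨W, hW⟩ ⟶ L.subscheme := L.subschemeCover.f ⟨W, hW⟩
  haveI : IsOpenImmersion j := inferInstanceAs (IsOpenImmersion (L.subschemeCover.f ⟨W, hW⟩))
  have hrange : j.opensRange = L.subschemeι ⁻¹ᵁ L'.support.compl := by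
    rw [show j.opensRange = L.subschemeι ⁻¹ᵁ W from L.opensRange_subschemeCover_map ⟨W, hW⟩]
    ext x
    refine ⟨fun hx => hW' _ hx, fun hx => hsub _ ?_ hx⟩
    rw [← SetLike.mem_coe, ← L.range_subschemeι]
    exact ⟨x, rfl⟩
  refine ⟨IsOpenImmersion.isoOfRangeEq j (L.subschemeι ⁻¹ᵁ L'.support.compl).ι (by
    rw [Scheme.Opens.range_ι, ← hrange]; rfl), ?_⟩
  rw [FlatStrat.strat, ← Category.assoc, IsOpenImmersion.isoOfRangeEq_hom_fac]
  show L.subschemeCover.f ⟨W, hW⟩ ≫ L.subschemeι = _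
  rw [Scheme.IdealSheafData.subschemeCover_map_subschemeι, Scheme.IdealSheafData.glueDataObjι_ι]

/-- Adding a stratum. -/
theorem reach_step [CompactSpace X] [QuasiSeparatedSpace X] {W : X.Opens} (hW : IsAffineOpen W)
    (J : Ideal Γ(X, W)) (hJ : J.FG) {O : X.Opens} (hO : IsCompact (O : Set X))
    (hV : ∀ x ∈ W, x ∈ X.zeroLocus (U := W) (J : Set Γ(X, W)) ↔ x ∉ O)
    (hP : ∀ {Z : Scheme.{u}} (g : Z ⟶ X) (e : Spec (CommRingCat.of (Γ(X, W) ⧸ J)) ≅ Z),
      e.hom ≫ g = pieceHom hW J → P g)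
    (h : Reach P (W ⊔ O)) : Reach P O := by
  obtain ⟨E, hEfg, hEW, hEO⟩ := exists_extension hW J hJ hO fun x hx hx' => (hV x hx).1 hx'
  obtain ⟨L', hL'fg, hL's, hchain⟩ := h
  let L := E * L'
  have hfg : ∀ U : X.affineOpens, (L.ideal U).FG := fun U => by
    simp only [L, Scheme.IdealSheafData.ideal_mul, Pi.mul_apply]
    exact Submodule.FG.mul (hEfg U) (hL'fg U)
  have hWL' : ∀ x ∈ W, x ∉ L'.support := fun x hx h => (hL's x).1 h (Opens.mem_sup.2 (Or.inl hx))
  have hEW' : ∀ x ∈ W, x ∈ E.support ↔ x ∉ O := fun x hx => by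
    rw [Scheme.IdealSheafData.mem_support_iff_of_mem (U := ⟨W, hW⟩) hx, hEW, hV x hx]
  have hs : ∀ x, x ∈ L.support ↔ x ∉ O := fun x => by
    show x ∈ (E * L').support ↔ _
    rw [Scheme.IdealSheafData.support_mul]
    show (x ∈ E.support ∨ x ∈ L'.support) ↔ _
    rw [hL's, Opens.mem_sup]
    refine ⟨fun h hxO => h.elim (hEO x hxO) (fun h' => h' (Or.inr hxO)), fun hxO => ?_⟩
    by_cases hxW : x ∈ W
    · exact Or.inl ((hEW' x hxW).2 hxO)
    · exact Or.inr fun h => h.elim hxW hxO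
  have hideal : L.ideal ⟨W, hW⟩ = J := by
    simp only [L, Scheme.IdealSheafData.ideal_mul, Pi.mul_apply, hEW,
      ideal_eq_of_support_disjoint L' ⟨W, hW⟩ hWL', Ideal.mul_top]
  obtain ⟨e, he⟩ := exists_strat_iso L L' hW J hideal hWL' fun x hx hx' => by
    rw [hs] at hx
    rw [hL's, not_not, Opens.mem_sup] at hx'
    exact hx'.resolve_right hx
  refine ⟨L, hfg, hs, Relation.ReflTransGen.head ⟨?_, hfg, hP _ e he⟩ hchain⟩
  intro U
  simp only [L, Scheme.IdealSheafData.ideal_mul, Pi.mul_apply]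
  exact fun z hz => (Ideal.mul_le_inf hz).2

/-- The chain of ideal sheaves. -/
theorem exists_fin_of_reach (h : Reach P (⊥ : X.Opens)) :
    ∃ (t : ℕ) (I : Fin (t + 1) → X.IdealSheafData), Monotone I ∧ I (Fin.last t) = ⊤ ∧
      ((I 0).support : Set X) = Set.univ ∧ (∀ i, ∀ U : X.affineOpens, ((I i).ideal U).FG) ∧
      ∀ i : Fin t, P (FlatStrat.strat (I i.castSucc) (I i.succ)) := by
  obtain ⟨L, -, hLs, hchain⟩ := h
  suffices H : ∃ (t : ℕ) (I : Fin (t + 1) → X.IdealSheafData), I 0 = L ∧ Monotone I ∧ I (Fin.last t) = ⊤ ∧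
      (∀ i, ∀ U : X.affineOpens, ((I i).ideal U).FG) ∧
      ∀ i : Fin t, P (FlatStrat.strat (I i.castSucc) (I i.succ)) by
    obtain ⟨t, I, h0, hm, hl, hfg, hP⟩ := H
    exact ⟨t, I, hm, hl, Set.eq_univ_of_forall fun x => h0 ▸ (hLs x).2 (fun hx => hx), hfg, hP⟩
  clear hLs
  induction hchain using Relation.ReflTransGen.head_induction_on with
  | refl => exact ⟨0, fun _ => ⊤, rfl, monotone_const, rfl, fun _ => fg_top, fun i => i.elim0⟩
  | @head a b hab _ ih =>
    obtain ⟨t, I, h0, hmono, hlast, hfg, hP⟩ := ih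
    refine ⟨t + 1, Fin.cons a I, rfl, Fin.monotone_iff_le_succ.2 fun i => ?_, ?_, fun i => ?_, fun i => ?_⟩
    · induction i using Fin.cases with
      | zero => simpa [h0] using hab.1
      | succ j => simpa [← Fin.succ_castSucc] using Fin.monotone_iff_le_succ.1 hmono j
    · rw [← Fin.succ_last, Fin.cons_succ, hlast]
    · induction i using Fin.cases with
      | zero => exact hab.2.1
      | succ j => rw [Fin.cons_succ]; exact hfg j
    · induction i using Fin.cases with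
      | zero =>
        rw [Fin.castSucc_zero, Fin.cons_zero, Fin.cons_succ, h0]
        exact hab.2.2
      | succ j =>
        rw [← Fin.succ_castSucc, Fin.cons_succ, Fin.cons_succ]
        exact hP j

/-- The trace of an open on a closed piece as an ideal. -/
theorem zeroLocus_sup_span {W : X.Opens} (I : Ideal Γ(X, W)) (T : Set Γ(X, W)) (x : X) (hx : x ∈ W) :
    x ∈ X.zeroLocus (U := W) ((I ⊔ Ideal.span T : Ideal Γ(X, W)) : Set Γ(X, W)) ↔
      x ∈ X.zeroLocus (U := W) (I : Set Γ(X, W)) ∧ ∀ t ∈ T, x ∉ X.basicOpen t := by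
  have h : (I ⊔ Ideal.span T : Ideal Γ(X, W)) = Ideal.span ((I : Set Γ(X, W)) ∪ T) := by
    rw [Ideal.span_union, Ideal.span_eq]
  rw [h, Scheme.zeroLocus_span]
  simp only [Scheme.mem_zeroLocus_iff, Set.mem_union]
  exact ⟨fun h => ⟨fun f hf => h f (Or.inl hf), fun t ht => h t (Or.inr ht)⟩,
    fun ⟨h1, h2⟩ f hf => hf.elim (h1 f) (h2 f)⟩

end Groth.Agent.SmoothStrat
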