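import Groth.Agent.SmoothStrat.Field
import Groth.Agent.MorLib.RingUnivHomeo

/-!
# Smooth stratifications near the generic point of a Noetherian domain
-/

set_option autoImplicit false
set_option linter.style.haveILetI false
set_option backward.isDefEq.respectTransparency false
set_option backward.isDefEq.respectTransparency.types false
universe u

namespace Groth.Agent.SmoothStrat

open TensorProduct

attribute [local instance] Algebra.TensorProduct.rightAlgebra

section

variable {R A E E' : Type u} [CommRing R] [CommRing A] [Algebra R A] [CommRing E] [Algebra R E]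
  [CommRing E'] [Algebra R E']

/-- The comparison of two base changes is a pushout. -/
theorem isPushout_tensor_map [Algebra E E'] [IsScalarTower R E E'] [Algebra (E ⊗[R] A) (E' ⊗[R] A)]
    (h : ∀ x, algebraMap (E ⊗[R] A) (E' ⊗[R] A) x =
      Algebra.TensorProduct.map (IsScalarTower.toAlgHom R E E') (AlgHom.id R A) x) :
    ∃ (_ : IsScalarTower E (E ⊗[R] A) (E' ⊗[R] A)) (_ : IsScalarTower A (E ⊗[R] A) (E' ⊗[R] A)),
      Algebra.IsPushout E E' (E ⊗[R] A) (E' ⊗[R] A) := by
  haveI h1 : IsScalarTower A (E ⊗[R] A) (E' ⊗[R] A) := IsScalarTower.of_algebraMap_eq fun a => by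
    rw [h]
    show (1 : E') ⊗ₜ[R] a = Algebra.TensorProduct.map _ _ ((1 : E) ⊗ₜ[R] a)
    simp
  haveI h2 : IsScalarTower E (E ⊗[R] A) (E' ⊗[R] A) := IsScalarTower.of_algebraMap_eq fun e => by
    rw [h]
    show algebraMap E E' e ⊗ₜ[R] (1 : A) = Algebra.TensorProduct.map _ _ (e ⊗ₜ[R] (1 : A))
    simp
  haveI : IsScalarTower R (E ⊗[R] A) (E' ⊗[R] A) := IsScalarTower.of_algebraMap_eq fun x => by
    rw [h, AlgHom.commutes]
  exact ⟨h2, h1, (Algebra.IsPushout.comp_iff R E (R' := A) (S' := E ⊗[R] A)).1 inferInstance⟩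

/-- Base change of a stratification of an extended ideal along a map of base rings. -/
theorem Strat.tensor_map (φ : E →ₐ[R] E') {c : E} {I : Ideal A}
    (h : Strat E (E ⊗[R] A) c (I.map (algebraMap A (E ⊗[R] A)))) (hc : IsUnit (φ c)) :
    Strat E' (E' ⊗[R] A) 1 (I.map (algebraMap A (E' ⊗[R] A))) := by
  letI : Algebra E E' := φ.toRingHom.toAlgebra
  haveI : IsScalarTower R E E' := IsScalarTower.of_algebraMap_eq fun x => (φ.commutes x).symm
  letI : Algebra (E ⊗[R] A) (E' ⊗[R] A) :=
    (Algebra.TensorProduct.map (IsScalarTower.toAlgHom R E E') (AlgHom.id R A)).toRingHom.toAlgebra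
  obtain ⟨h1, h2, h3⟩ := isPushout_tensor_map (R := R) (A := A) (E := E) (E' := E') fun _ => rfl
  have h' := h.baseChange_one (T := E') (B' := E' ⊗[R] A) hc
  rwa [Ideal.map_map, ← IsScalarTower.algebraMap_eq] at h'

end

/-- Finitely many stratifications over one purely inseparable extension. -/
theorem exists_strat_field_family {k : Type u} [Field k] {ι : Type} [Finite ι] (A : ι → Type u)
    [∀ i, CommRing (A i)] [∀ i, Algebra k (A i)] [∀ i, Algebra.FiniteType k (A i)] (Ω : Type u) [Field Ω]
    [Algebra k Ω] [IsAlgClosed Ω] [Algebra.IsAlgebraic k Ω] (I : ∀ i, Ideal (A i)) :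
    ∃ E : IntermediateField k Ω, FiniteDimensional k E ∧ IsPurelyInseparable k E ∧
      ∀ i, StratOver (k := k) E (I i) := by
  classical
  haveI := Fintype.ofFinite ι
  suffices H : ∀ s : Finset ι, ∃ E : IntermediateField k Ω, FiniteDimensional k E ∧ IsPurelyInseparable k E ∧
      ∀ i ∈ s, StratOver (k := k) E (I i) by
    obtain ⟨E, h1, h2, h3⟩ := H Finset.univ
    exact ⟨E, h1, h2, fun i => h3 i (Finset.mem_univ i)⟩
  intro s
  induction s using Finset.induction_on with
  | empty => exact ⟨⊥, inferInstance, inferInstance, fun i hi => absurd hi (Finset.notMem_empty i)⟩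
  | insert j s _ ih =>
    obtain ⟨E₁, _, _, h₁⟩ := ih
    obtain ⟨E₂, _, _, h₂⟩ := exists_strat_field (k := k) Ω (I j)
    refine ⟨E₁ ⊔ E₂, inferInstance, inferInstance, fun i hi => ?_⟩
    rcases Finset.mem_insert.1 hi with rfl | hi
    · exact h₂.ext_field (IntermediateField.inclusion le_sup_right)
    · exact (h₁ i hi).ext_field (IntermediateField.inclusion le_sup_left)

/-- A finite purely inseparable extension of the fraction field has a finite integral model. -/
theorem exists_model {R : Type u} [CommRing R] [IsDomain R] {K E : Type u} [Field K] [Algebra R K]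
    [IsFractionRing R K] [Field E] [Algebra K E] [Algebra R E] [IsScalarTower R K E] [FiniteDimensional K E]
    [IsPurelyInseparable K E] :
    ∃ R' : Subalgebra R E, Module.Finite R R' ∧
      (∀ x ∈ R', ∃ n : ℕ, x ^ ringExpChar K ^ n ∈ (algebraMap R E).range) ∧
      IsLocalization (Algebra.algebraMapSubmonoid R' (nonZeroDivisors R)) E := by
  classical
  set q := ringExpChar K with hq
  haveI : ExpChar K q := inferInstance
  haveI : ExpChar E q := expChar_of_injective_algebraMap (algebraMap K E).injective q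
  have hinj : Function.Injective (algebraMap R E) := by
    rw [IsScalarTower.algebraMap_eq R K E]
    exact (algebraMap K E).injective.comp (IsFractionRing.injective R K)
  -- every element has a multiple with a power in `R`
  have hscale : ∀ e : E, ∃ b : R, b ≠ 0 ∧ ∃ n : ℕ, (algebraMap R E b * e) ^ q ^ n ∈ (algebraMap R E).range := by
    intro e
    obtain ⟨n, z, hz⟩ := IsPurelyInseparable.pow_mem K q e
    obtain ⟨a, b, hb, rfl⟩ := IsFractionRing.div_surjective (A := R) z
    have hb0 : b ≠ 0 := nonZeroDivisors.ne_zero hb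
    have hbK : algebraMap R K b ≠ 0 := fun h => hb0 (IsFractionRing.injective R K (h.trans (map_zero _).symm))
    refine ⟨b, hb0, n, b ^ (q ^ n - 1) * a, ?_⟩
    have hq0 : q ^ n ≠ 0 := pow_ne_zero _ (expChar_pos K q).ne'
    rw [mul_pow, ← hz, map_div₀, ← IsScalarTower.algebraMap_apply, ← IsScalarTower.algebraMap_apply, map_mul, map_pow]
    have hbE : algebraMap R E b ≠ 0 := fun h => hb0 (hinj (h.trans (map_zero _).symm))
    field_simp
    rw [mul_right_comm, ← pow_succ, Nat.sub_add_cancel (Nat.one_le_iff_ne_zero.2 hq0), mul_comm]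
  choose b hb hpow using hscale
  let basis := Module.Free.chooseBasis K E
  let g : Module.Free.ChooseBasisIndex K E → E := fun i => algebraMap R E (b (basis i)) * basis i
  let R' : Subalgebra R E := Algebra.adjoin R (Set.range g)
  have hg : ∀ x ∈ R', ∃ n : ℕ, x ^ q ^ n ∈ (algebraMap R E).range := by
    intro x hx
    induction hx using Algebra.adjoin_induction with
    | mem x hx =>
      obtain ⟨i, rfl⟩ := hx
      exact hpow _
    | algebraMap r => exact ⟨0, by rw [pow_zero, pow_one]; exact ⟨r, rfl⟩⟩
    | add x y _ _ hx hy =>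
      obtain ⟨n, hn⟩ := hx; obtain ⟨m, hm⟩ := hy
      refine ⟨n + m, ?_⟩
      rw [add_pow_expChar_pow]
      refine Subring.add_mem _ ?_ ?_
      · rw [pow_add, pow_mul]; exact Subring.pow_mem _ hn _
      · rw [add_comm n m, pow_add, pow_mul]; exact Subring.pow_mem _ hm _
    | mul x y _ _ hx hy =>
      obtain ⟨n, hn⟩ := hx; obtain ⟨m, hm⟩ := hy
      refine ⟨n + m, ?_⟩
      rw [mul_pow]
      refine Subring.mul_mem _ ?_ ?_
      · rw [pow_add, pow_mul]; exact Subring.pow_mem _ hn _
      · rw [add_comm n m, pow_add, pow_mul]; exact Subring.pow_mem _ hm _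
  have hint : ∀ x ∈ Set.range g, IsIntegral R x := by
    rintro _ ⟨i, rfl⟩
    obtain ⟨n, r, hr⟩ := hpow (basis i)
    refine IsIntegral.of_pow (pow_pos (expChar_pos K q) n) ?_
    show IsIntegral R ((algebraMap R E (b (basis i)) * basis i) ^ q ^ n)
    rw [← hr]
    exact isIntegral_algebraMap
  haveI : Module.Finite R R' := ⟨(Submodule.fg_top _).2 (fg_adjoin_of_finite (Set.finite_range g) hint)⟩
  refine ⟨R', inferInstance, hg, ?_⟩
  have hsurj : ∀ z : E, ∃ m : R, m ≠ 0 ∧ algebraMap R E m * z ∈ R' := by
    intro z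
    have hz : z ∈ Submodule.span K (Set.range basis) := by rw [basis.span_eq]; exact Submodule.mem_top
    induction hz using Submodule.span_induction with
    | mem z hz =>
      obtain ⟨i, rfl⟩ := hz
      exact ⟨b (basis i), hb _, Algebra.subset_adjoin ⟨i, rfl⟩⟩
    | zero => exact ⟨1, one_ne_zero, by rw [mul_zero]; exact R'.zero_mem⟩
    | add x y _ _ hx hy =>
      obtain ⟨m, hm, hx⟩ := hx; obtain ⟨l, hl, hy⟩ := hy
      refine ⟨m * l, mul_ne_zero hm hl, ?_⟩
      rw [map_mul, mul_add, show algebraMap R E m * algebraMap R E l * x = algebraMap R E l * (algebraMap R E m * x) by ring,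
        mul_assoc _ _ y]
      exact R'.add_mem (R'.mul_mem (R'.algebraMap_mem _) hx) (R'.mul_mem (R'.algebraMap_mem _) hy)
    | smul c x _ hx =>
      obtain ⟨m, hm, hx⟩ := hx
      obtain ⟨a, d, hd, rfl⟩ := IsFractionRing.div_surjective (A := R) c
      refine ⟨d * m, mul_ne_zero (nonZeroDivisors.ne_zero hd) hm, ?_⟩
      have : algebraMap R E (d * m) * ((algebraMap R K a / algebraMap R K d) • x) =
          algebraMap R E a * (algebraMap R E m * x) := by
        have hdE : algebraMap R E d ≠ 0 := fun h => nonZeroDivisors.ne_zero hd (hinj (h.trans (map_zero _).symm))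
        rw [Algebra.smul_def, map_div₀, ← IsScalarTower.algebraMap_apply, ← IsScalarTower.algebraMap_apply, map_mul]
        field_simp
      rw [this]
      exact R'.mul_mem (R'.algebraMap_mem _) hx
  refine (isLocalization_iff _ _).2 ⟨?_, ?_, ?_⟩
  · rintro ⟨_, m, hm, rfl⟩
    refine IsUnit.mk0 _ fun h => nonZeroDivisors.ne_zero hm (hinj ?_)
    rw [map_zero]
    exact h
  · intro z
    obtain ⟨m, hm, hz⟩ := hsurj z
    exact ⟨⟨⟨_, hz⟩, ⟨_, m, mem_nonZeroDivisors_of_ne_zero hm, rfl⟩⟩, mul_comm _ _⟩
  · intro x y h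
    exact ⟨1, by rw [Subtype.ext h]⟩

theorem exists_core_aux {R : Type u} [CommRing R] [IsDomain R] [IsNoetherianRing R] {ι : Type} [Finite ι] (A : ι → Type u)
    [∀ i, CommRing (A i)] [∀ i, Algebra R (A i)] [∀ i, Algebra.FiniteType R (A i)] (I : ∀ i, Ideal (A i))
    {K E : Type u} [Field K] [Algebra R K] [IsFractionRing R K] [Field E] [Algebra K E] [Algebra R E]
    [IsScalarTower R K E] [FiniteDimensional K E] [IsPurelyInseparable K E]
    (hE : ∀ i, StratOver (k := K) E ((I i).map (algebraMap (A i) (K ⊗[R] A i)))) :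
    ∃ (R' : Type u) (_ : CommRing R') (_ : Algebra R R') (c : R), Module.Finite R R' ∧ c ≠ 0 ∧
      ∀ (D : Type u) [CommRing D] [Algebra R D], IsUnit (algebraMap R D c) →
        Module.Free D (D ⊗[R] R') ∧ Function.Surjective (PrimeSpectrum.comap (algebraMap D (D ⊗[R] R'))) ∧
        MorLib.RUH.Radicial (algebraMap D (D ⊗[R] R')) ∧
        ∀ i, Strat (D ⊗[R] R') ((D ⊗[R] R') ⊗[R] A i) 1
          ((I i).map (algebraMap (A i) ((D ⊗[R] R') ⊗[R] A i))) := by
  classical
  haveI := Fintype.ofFinite ι
  set q := ringExpChar K with hq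
  obtain ⟨R', _, hpow, hloc⟩ := exists_model (R := R) (K := K) (E := E)
  -- freeness
  haveI : IsLocalizedModule (nonZeroDivisors R) (IsScalarTower.toAlgHom R R' E).toLinearMap :=
    isLocalizedModule_iff_isLocalization.mpr hloc
  haveI : Module.FinitePresentation R R' := Module.finitePresentation_of_finite R R'
  obtain ⟨c₀, hc₀, hfree, -⟩ := Module.FinitePresentation.exists_free_localizedModule_powers
    (nonZeroDivisors R) (IsScalarTower.toAlgHom R R' E).toLinearMap K
  -- stratifications over the model
  have hstage : ∀ i, ∃ c ∈ Algebra.algebraMapSubmonoid R' (nonZeroDivisors R),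
      Strat R' (R' ⊗[R] A i) c ((I i).map (algebraMap (A i) (R' ⊗[R] A i))) := by
    intro i
    haveI : IsNoetherianRing (A i) := Algebra.FiniteType.isNoetherianRing R (A i)
    haveI : Algebra.FinitePresentation R (A i) := Algebra.FinitePresentation.of_finiteType.1 inferInstance
    letI : Algebra (R' ⊗[R] A i) (E ⊗[R] A i) :=
      (Algebra.TensorProduct.map (IsScalarTower.toAlgHom R R' E) (AlgHom.id R (A i))).toRingHom.toAlgebra
    obtain ⟨h1, h2, h3⟩ := isPushout_tensor_map (R := R) (A := A i) (E := R') (E' := E) fun _ => rfl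
    have hs := (hE i).of_equiv (Algebra.TensorProduct.cancelBaseChange R K E E (A i))
    have hI : ((I i).map (algebraMap (A i) (R' ⊗[R] A i))).map (algebraMap (R' ⊗[R] A i) (E ⊗[R] A i)) =
        (((I i).map (algebraMap (A i) (K ⊗[R] A i))).map (algebraMap (K ⊗[R] A i) (E ⊗[K] (K ⊗[R] A i)))).map
          (Algebra.TensorProduct.cancelBaseChange R K E E (A i)).toAlgHom.toRingHom := by
      rw [Ideal.map_map, ← IsScalarTower.algebraMap_eq, Ideal.map_map, Ideal.map_map]
      congr 1
      refine RingHom.ext fun a => ?_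
      show (1 : E) ⊗ₜ[R] a = Algebra.TensorProduct.cancelBaseChange R K E E (A i) ((1 : E) ⊗ₜ[K] ((1 : K) ⊗ₜ[R] a))
      simp
    rw [← hI] at hs
    exact exists_strat_stage _ E hs _ (Ideal.FG.map (IsNoetherian.noetherian (I i)) _) rfl
  choose c hc hstrat using hstage
  choose c' hc' hcc' using hc
  refine ⟨R', inferInstance, inferInstance, c₀ * ∏ i, c' i, inferInstance, ?_, fun D _ _ hD => ?_⟩
  · exact mul_ne_zero (nonZeroDivisors.ne_zero hc₀)
      (Finset.prod_ne_zero_iff.2 fun i _ => nonZeroDivisors.ne_zero (hc' i))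
  rw [map_mul, IsUnit.mul_iff, map_prod, IsUnit.prod_univ_iff] at hD
  letI : Algebra (Localization.Away c₀) D :=
    (IsLocalization.Away.lift c₀ hD.1 : Localization.Away c₀ →+* D).toAlgebra
  haveI : IsScalarTower R (Localization.Away c₀) D :=
    IsScalarTower.of_algebraMap_eq fun x => (IsLocalization.Away.lift_eq c₀ hD.1 x).symm
  let T₀ := Localization.Away c₀ ⊗[R] R'
  haveI : Module.Free (Localization.Away c₀) T₀ := Module.Free.of_equiv
    (((isLocalizedModule_iff_isBaseChange (Submonoid.powers c₀) (Localization.Away c₀)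
      (LocalizedModule.mkLinearMap (Submonoid.powers c₀) R')).1 inferInstance).equiv).symm
  haveI hfreeD : Module.Free D (D ⊗[R] R') := Module.Free.of_equiv
    (TensorProduct.AlgebraTensorModule.cancelBaseChange R (Localization.Away c₀) D D R')
  refine ⟨hfreeD, ?_, ?_, fun i => (hstrat i).tensor_map Algebra.TensorProduct.includeRight ?_⟩
  · intro p
    haveI := p.isPrime
    haveI : Nontrivial D := ⟨⟨0, 1, fun h => p.isPrime.ne_top ((Ideal.eq_top_iff_one _).2 (h ▸ p.asIdeal.zero_mem))⟩⟩
    haveI : Nontrivial T₀ := by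
      have hu : ∀ y : Submonoid.powers c₀, IsUnit (algebraMap R E y) := by
        rintro ⟨_, n, rfl⟩
        rw [map_pow, IsScalarTower.algebraMap_apply R K E]
        exact ((IsLocalization.map_units K ⟨c₀, hc₀⟩).map (algebraMap K E)).pow n
      exact RingHom.domain_nontrivial (Algebra.TensorProduct.lift
        (IsLocalization.liftAlgHom (M := Submonoid.powers c₀) (f := Algebra.ofId R E) hu)
        (IsScalarTower.toAlgHom R R' E) (fun _ _ => mul_comm _ _)).toRingHom
    let bas := Module.Free.chooseBasis (Localization.Away c₀) T₀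
    haveI : Nonempty (Module.Free.ChooseBasisIndex (Localization.Away c₀) T₀) := bas.index_nonempty
    let basD := ((bas.baseChange D).map
      (TensorProduct.AlgebraTensorModule.cancelBaseChange R (Localization.Away c₀) D D R'))
    haveI : Nontrivial (D ⊗[R] R') := basD.repr.toEquiv.nontrivial
    haveI : Module.FaithfullyFlat D (D ⊗[R] R') := inferInstance
    exact PrimeSpectrum.comap_surjective_of_faithfullyFlat p
  · intro L _ f g hfg
    refine Algebra.TensorProduct.ringHom_ext hfg (RingHom.ext fun x => ?_)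
    obtain ⟨n, r, hr⟩ := hpow x.1 x.2
    have hx : x ^ q ^ n = algebraMap R R' r := Subtype.ext hr.symm
    let f' : R' →+* L := f.comp (Algebra.TensorProduct.includeRight : R' →ₐ[R] D ⊗[R] R').toRingHom
    let g' : R' →+* L := g.comp (Algebra.TensorProduct.includeRight : R' →ₐ[R] D ⊗[R] R').toRingHom
    have hR : ∀ r : R, f' (algebraMap R R' r) = g' (algebraMap R R' r) := fun r => by
      show f ((Algebra.TensorProduct.includeRight : R' →ₐ[R] D ⊗[R] R') (algebraMap R R' r)) =
        g ((Algebra.TensorProduct.includeRight : R' →ₐ[R] D ⊗[R] R') (algebraMap R R' r))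
      rw [AlgHom.commutes, IsScalarTower.algebraMap_apply R D (D ⊗[R] R')]
      exact RingHom.congr_fun hfg (algebraMap R D r)
    have h : f' x ^ q ^ n = g' x ^ q ^ n := by rw [← map_pow, ← map_pow, hx, hR]
    show f' x = g' x
    rcases expChar_is_prime_or_one K q with hp | h1
    · haveI : Fact q.Prime := ⟨hp⟩
      have hcp : ∀ m : ℕ, ExpChar K m → m.Prime → CharP K m := fun m hm hm' => by
        cases hm with
        | zero => exact absurd hm' Nat.not_prime_one
        | prime _ => assumption
      haveI : CharP K q := hcp q inferInstance hp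
      have h0 : (q : R) = 0 := IsFractionRing.injective R K (by rw [map_natCast, map_zero, CharP.cast_eq_zero])
      haveI : CharP L q := (CharP.charP_iff_prime_eq_zero hp).2 (by
        have := congrArg (f'.comp (algebraMap R R')) h0
        rwa [map_natCast, map_zero] at this)
      haveI : ExpChar L q := ExpChar.prime hp
      exact iterateFrobenius_inj L q n (by simpa [iterateFrobenius_def] using h)
    · simpa [h1] using h
  · rw [← hcc' i, AlgHom.commutes, IsScalarTower.algebraMap_apply R D (D ⊗[R] R')]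
    exact (hD.2 i).map _

/-- Smooth stratifications exist near the generic point, after a finite free radicial extension. -/
theorem exists_core {R : Type u} [CommRing R] [IsDomain R] [IsNoetherianRing R] {ι : Type} [Finite ι] (A : ι → Type u)
    [∀ i, CommRing (A i)] [∀ i, Algebra R (A i)] [∀ i, Algebra.FiniteType R (A i)] (I : ∀ i, Ideal (A i)) :
    ∃ (R' : Type u) (_ : CommRing R') (_ : Algebra R R') (c : R), Module.Finite R R' ∧ c ≠ 0 ∧
      ∀ (D : Type u) [CommRing D] [Algebra R D], IsUnit (algebraMap R D c) →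
        Module.Free D (D ⊗[R] R') ∧ Function.Surjective (PrimeSpectrum.comap (algebraMap D (D ⊗[R] R'))) ∧
        MorLib.RUH.Radicial (algebraMap D (D ⊗[R] R')) ∧
        ∀ i, Strat (D ⊗[R] R') ((D ⊗[R] R') ⊗[R] A i) 1
          ((I i).map (algebraMap (A i) ((D ⊗[R] R') ⊗[R] A i))) := by
  obtain ⟨E, h₁, h₂, hE⟩ := exists_strat_field_family (k := FractionRing R) (fun i => FractionRing R ⊗[R] A i)
    (AlgebraicClosure (FractionRing R)) (fun i => (I i).map (algebraMap (A i) (FractionRing R ⊗[R] A i)))
  haveI := h₁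
  haveI := h₂
  exact exists_core_aux A I (K := FractionRing R) (E := E) hE

end Groth.Agent.SmoothStrat
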