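import Groth.Agent.SmoothStrat.Alg

/-!
# Descent of smooth stratifications from a localisation of the base
-/

set_option autoImplicit false
set_option linter.style.haveILetI false
set_option backward.isDefEq.respectTransparency false
set_option backward.isDefEq.respectTransparency.types false
universe u

namespace Groth.Agent.SmoothStrat

open TensorProduct

variable {R B : Type u} [CommRing R] [CommRing B] [Algebra R B]

/-- A stratification of `V(I) ∩ D(c)` gives one of any smaller basic open. -/
theorem Strat.mono {c d : R} {I : Ideal B} (h : Strat R B c I) (hcd : c ∣ d) : Strat R B d I := by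
  haveI : Algebra.IsPushout R R B B := ⟨IsBaseChange.ofEquiv (LinearEquiv.refl R B)⟩
  have h2 := h.baseChange (T := R) (B' := B) (d := d) (by rwa [Algebra.algebraMap_self_apply])
  rwa [Algebra.algebraMap_self, Ideal.map_id] at h2

theorem smooth_away_quot_away {A₁ A₂ : Type u} [CommRing A₁] [CommRing A₂] [Algebra R A₁] [Algebra R A₂]
    [Algebra A₁ A₂] [IsScalarTower R A₁ A₂] (x : A₁) [IsLocalization.Away x A₂] (I₁ : Ideal A₁) (I₂ : Ideal A₂)
    (hI : I₁.map (algebraMap A₁ A₂) = I₂) (h : Algebra.Smooth R (Localization.Away (Ideal.Quotient.mk I₁ x))) :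
    Algebra.Smooth R (A₂ ⧸ I₂) := by
  have hle : I₁ ≤ I₂.comap (algebraMap A₁ A₂) := Ideal.map_le_iff_le_comap.1 hI.le
  letI : Algebra (A₁ ⧸ I₁) (A₂ ⧸ I₂) := (Ideal.quotientMap I₂ (algebraMap A₁ A₂) hle).toAlgebra
  haveI : IsScalarTower R (A₁ ⧸ I₁) (A₂ ⧸ I₂) := IsScalarTower.of_algebraMap_eq fun r => by
    show algebraMap R (A₂ ⧸ I₂) r = Ideal.quotientMap I₂ (algebraMap A₁ A₂) hle (Ideal.Quotient.mk I₁ (algebraMap R A₁ r))
    rw [Ideal.quotientMap_mk, ← IsScalarTower.algebraMap_apply]
    rfl
  haveI : IsLocalization.Away (Ideal.Quotient.mk I₁ x) (A₂ ⧸ I₂) := by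
    simp only [IsLocalization.Away, ← Submonoid.map_powers]
    refine IsLocalization.of_surjective _ _ _ Ideal.Quotient.mk_surjective _ Ideal.Quotient.mk_surjective ?_ ?_
    · rfl
    · rw [Ideal.mk_ker, Ideal.mk_ker, hI]
  haveI := h
  exact Algebra.Smooth.of_equiv ((IsLocalization.algEquiv (Submonoid.powers (Ideal.Quotient.mk I₁ x))
    (Localization.Away (Ideal.Quotient.mk I₁ x)) (A₂ ⧸ I₂)).restrictScalars R)

variable (M : Submonoid R) (Rm : Type u) [CommRing Rm] [Algebra R Rm] [IsLocalization M Rm]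

/-- Smoothness over a localisation of the base descends to a basic open. -/
theorem exists_smooth_away (C : Type u) [CommRing C] [Algebra R C] [Algebra.FinitePresentation R C]
    [Algebra.Smooth Rm (Rm ⊗[R] C)] :
    ∃ c ∈ M, Algebra.Smooth R (Localization.Away (algebraMap R C c)) := by
  obtain ⟨Z, hZ⟩ := (PrimeSpectrum.isClosed_iff_zeroLocus_ideal _).mp
    (Algebra.isOpen_smoothLocus (R := R) (A := C)).isClosed_compl
  obtain ⟨c, hcM, hcZ⟩ : ∃ c ∈ M, algebraMap R C c ∈ Z := by
    by_contra hn
    push Not at hn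
    obtain ⟨P, hP, hZP, hdis⟩ := Z.exists_le_prime_disjoint (Algebra.algebraMapSubmonoid C M) (by
      rw [Set.disjoint_right]
      rintro _ ⟨c, hc, rfl⟩
      exact hn c hc)
    haveI := hP
    have hsmD : Algebra.Smooth Rm (Rm ⊗[R] C) := inferInstance
    letI : Algebra C (Rm ⊗[R] C) := Algebra.TensorProduct.rightAlgebra
    haveI : IsScalarTower R C (Rm ⊗[R] C) := IsScalarTower.of_algebraMap_eq fun r => by
      show algebraMap R (Rm ⊗[R] C) r = (1 : Rm) ⊗ₜ[R] algebraMap R C r
      exact Algebra.TensorProduct.algebraMap_apply' r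
    haveI : IsLocalization (Algebra.algebraMapSubmonoid C M) (Rm ⊗[R] C) :=
      (Algebra.isLocalization_iff_isPushout M Rm).mpr inferInstance
    let L := Localization.AtPrime P
    have hle : Algebra.algebraMapSubmonoid C M ≤ P.primeCompl := fun y hy hyP =>
      Set.disjoint_left.mp hdis hyP hy
    letI : Algebra (Rm ⊗[R] C) L := IsLocalization.localizationAlgebraOfSubmonoidLe (Rm ⊗[R] C) L
      (Algebra.algebraMapSubmonoid C M) P.primeCompl hle
    haveI : IsScalarTower C (Rm ⊗[R] C) L := IsLocalization.localization_isScalarTower_of_submonoid_le (Rm ⊗[R] C) L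
      (Algebra.algebraMapSubmonoid C M) P.primeCompl hle
    haveI : IsLocalization (P.primeCompl.map (algebraMap C (Rm ⊗[R] C))) L :=
      IsLocalization.isLocalization_of_submonoid_le (Rm ⊗[R] C) L (Algebra.algebraMapSubmonoid C M) P.primeCompl hle
    haveI : IsScalarTower R (Rm ⊗[R] C) L := IsScalarTower.of_algebraMap_eq fun r => by
      rw [IsScalarTower.algebraMap_apply R C L, IsScalarTower.algebraMap_apply C (Rm ⊗[R] C) L,
        ← IsScalarTower.algebraMap_apply R C (Rm ⊗[R] C)]
    haveI : Algebra.FormallyEtale R Rm := Algebra.FormallyEtale.of_isLocalization M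
    haveI : Algebra.FormallySmooth R (Rm ⊗[R] C) := Algebra.FormallySmooth.comp R Rm (Rm ⊗[R] C)
    haveI : Algebra.FormallyEtale (Rm ⊗[R] C) L :=
      Algebra.FormallyEtale.of_isLocalization (P.primeCompl.map (algebraMap C (Rm ⊗[R] C)))
    have hsm : Algebra.IsSmoothAt R P := Algebra.FormallySmooth.comp R (Rm ⊗[R] C) L
    have hmem : (⟨P, hP⟩ : PrimeSpectrum C) ∈ (Algebra.smoothLocus R C)ᶜ := by rw [hZ]; exact hZP
    exact hmem hsm
  refine ⟨c, hcM, ?_⟩
  rw [← Algebra.basicOpen_subset_smoothLocus_iff_smooth]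
  intro Q hQ
  by_contra hn
  have : Q ∈ PrimeSpectrum.zeroLocus (Z : Set C) := hZ ▸ hn
  exact hQ (this hcZ)

theorem finitePresentation_SQ [Algebra.FinitePresentation R B] {J : Ideal B} (hJ : J.FG) (a : B) :
    Algebra.FinitePresentation R (SQ B J a) := by
  haveI : Algebra.FinitePresentation R (Localization.Away a) :=
    haveI : Algebra.FinitePresentation B (Localization.Away a) := IsLocalization.Away.finitePresentation a
    Algebra.FinitePresentation.trans R B (Localization.Away a)
  exact Algebra.FinitePresentation.quotient (hJ.map _)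

variable {Bm : Type u} [CommRing Bm] [Algebra Rm Bm] [Algebra B Bm] [Algebra R Bm]
  [IsScalarTower R Rm Bm] [IsScalarTower R B Bm] [Algebra.IsPushout R Rm B Bm]

/-- Descent of a stratification from a localisation of the base. -/
theorem exists_strat_stage [Algebra.FinitePresentation R B] {I' : Ideal Bm} (h : Strat Rm Bm 1 I') :
    ∀ I : Ideal B, I.FG → I.map (algebraMap B Bm) = I' → ∃ c ∈ M, Strat R B c I := by
  classical
  haveI hloc : IsLocalization (Algebra.algebraMapSubmonoid B M) Bm :=
    (Algebra.isLocalization_iff_isPushout M Rm).mpr (Algebra.IsPushout.symm ‹Algebra.IsPushout R Rm B Bm›)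
  have hrad : ∀ (I : Ideal B) (x : B), algebraMap B Bm x ∈ (I.map (algebraMap B Bm)).radical →
      ∃ c ∈ M, algebraMap R B c * x ∈ I.radical := by
    rintro I x ⟨n, hn⟩
    rw [← map_pow, IsLocalization.algebraMap_mem_map_algebraMap_iff (Algebra.algebraMapSubmonoid B M)] at hn
    obtain ⟨_, ⟨c, hc, rfl⟩, hcn⟩ := hn
    refine ⟨c, hc, n + 1, ?_⟩
    rw [mul_pow, pow_succ, pow_succ x,
      show algebraMap R B c ^ n * algebraMap R B c * (x ^ n * x) =
        algebraMap R B c ^ n * x * (algebraMap R B c * x ^ n) by ring]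
    exact I.mul_mem_left _ hcn
  have hspan : ∀ z : Bm, ∃ (x : B) (u : Bm), IsUnit u ∧ algebraMap B Bm x = u * z := fun z => by
    obtain ⟨⟨x, s⟩, hxs⟩ := IsLocalization.surj (Algebra.algebraMapSubmonoid B M) z
    exact ⟨x, algebraMap B Bm s, IsLocalization.map_units _ s, by rw [← hxs, mul_comm]⟩
  induction h with
  | @top I' hI' =>
    intro I _ hI
    rw [map_one] at hI'
    obtain ⟨c, hc, hc'⟩ := hrad I 1 (by rw [hI, map_one]; exact hI')
    exact ⟨c, hc, .top (by rwa [mul_one] at hc')⟩
  | @step I' a' J' hJ' hIJ' hrad' hsm' _ ih =>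
    intro I hIfg hI
    obtain ⟨a, ua, hua, ha⟩ := hspan a'
    obtain ⟨G, hG⟩ := hJ'
    choose num un hun hnum using hspan
    let J : Ideal B := I ⊔ Ideal.span (↑(G.image num) : Set B)
    have hJfg : J.FG := Submodule.FG.sup hIfg ⟨_, rfl⟩
    have hmem : ∀ z ∈ G, algebraMap B Bm (num z) ∈ J' := fun z hz => by
      rw [hnum]
      exact Ideal.mul_mem_left _ _ (hG ▸ Ideal.subset_span hz)
    have hJmap : J.map (algebraMap B Bm) = J' := by
      refine le_antisymm ?_ ?_
      · rw [Ideal.map_sup, hI, Ideal.map_span, sup_le_iff, Ideal.span_le]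
        refine ⟨hIJ', ?_⟩
        rintro _ ⟨y, hy, rfl⟩
        obtain ⟨z, hz, rfl⟩ := Finset.mem_image.1 (Finset.mem_coe.1 hy)
        exact hmem z hz
      · rw [← hG, Ideal.span_le]
        intro z hz
        refine (Ideal.unit_mul_mem_iff_mem _ (hun z)).1 ?_
        rw [← hnum]
        exact Ideal.mem_map_of_mem _ (Ideal.mem_sup_right (Ideal.subset_span
          (Finset.mem_coe.2 (Finset.mem_image_of_mem num hz))))
    -- the stratum
    have hsm : Sm Rm Bm J' (algebraMap B Bm a) := by
      rw [map_one, one_mul] at hsm'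
      rw [ha, mul_comm]
      exact sm_mul hsm' ua
    obtain ⟨c₁, hc₁, hs₁⟩ : ∃ c ∈ M, Sm R B J (algebraMap R B c * a) := by
      obtain ⟨e⟩ := nonempty_sqEquiv (R := R) (B := B) (T := Rm) (B' := Bm) J a
      rw [hJmap] at e
      haveI : Algebra.Smooth Rm (SQ Bm J' (algebraMap B Bm a)) := hsm
      haveI : Algebra.Smooth Rm (Rm ⊗[R] SQ B J a) := Algebra.Smooth.of_equiv e.symm
      haveI := finitePresentation_SQ (R := R) hJfg a
      obtain ⟨c, hc, hcs⟩ := exists_smooth_away M Rm (SQ B J a)
      refine ⟨c, hc, ?_⟩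
      let A₂ := Localization.Away (algebraMap B (Localization.Away a) (algebraMap R B c))
      haveI : IsLocalization.Away (a * algebraMap R B c) A₂ :=
        IsLocalization.Away.mul' (Localization.Away a) A₂ a _
      rw [mul_comm, sm_iff_of_away J (a * algebraMap R B c) A₂]
      refine smooth_away_quot_away (algebraMap B (Localization.Away a) (algebraMap R B c))
        (J.map (algebraMap B (Localization.Away a))) _ (by rw [Ideal.map_map, ← IsScalarTower.algebraMap_eq]) ?_
      rw [← IsScalarTower.algebraMap_apply]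
      exact hcs
    -- the radical condition
    obtain ⟨c₂, hc₂, hr₂⟩ : ∃ c ∈ M, ∀ x ∈ J, algebraMap R B c * a * x ∈ I.radical := by
      have hz : ∀ z ∈ G, ∃ c ∈ M, algebraMap R B c * (a * num z) ∈ I.radical := fun z hz => by
        refine hrad I _ ?_
        rw [hI, map_mul, ha, mul_assoc]
        have h1 := hrad' _ (hmem z hz)
        rw [map_one, one_mul] at h1
        exact Ideal.mul_mem_left _ _ h1
      choose! c hcM hc using hz
      refine ⟨∏ z ∈ G, c z, Submonoid.prod_mem M fun z hz => hcM z hz, ?_⟩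
      have hle : J ≤ Submodule.colon I.radical {algebraMap R B (∏ z ∈ G, c z) * a} := by
        refine sup_le (fun x hx => ?_) (Ideal.span_le.2 ?_)
        · rw [Submodule.mem_colon_singleton, smul_eq_mul]
          exact Ideal.mul_mem_right _ _ (Ideal.le_radical hx)
        · intro y hy
          obtain ⟨z, hz, rfl⟩ := Finset.mem_image.1 (Finset.mem_coe.1 hy)
          rw [SetLike.mem_coe, Submodule.mem_colon_singleton, smul_eq_mul, ← Finset.mul_prod_erase G c hz, map_mul,
            show num z * (algebraMap R B (c z) * algebraMap R B (∏ w ∈ G.erase z, c w) * a) =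
              algebraMap R B (∏ w ∈ G.erase z, c w) * (algebraMap R B (c z) * (a * num z)) by ring]
          exact Ideal.mul_mem_left _ _ (hc z hz)
      intro x hx
      have h2 := hle hx
      rw [Submodule.mem_colon_singleton, smul_eq_mul, mul_comm] at h2
      exact h2
    -- the remaining strata
    obtain ⟨c₃, hc₃, hs₃⟩ := ih (I ⊔ Ideal.span {a}) (Submodule.FG.sup hIfg (Submodule.fg_span_singleton a)) (by
      rw [Ideal.map_sup, hI, Ideal.map_span, Set.image_singleton, ha,
        Ideal.span_singleton_mul_left_unit hua])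
    refine ⟨c₁ * c₂ * c₃, mul_mem (mul_mem hc₁ hc₂) hc₃, .step a J hJfg le_sup_left ?_ ?_
      (hs₃.mono (dvd_mul_left c₃ _))⟩
    · intro x hx
      rw [show algebraMap R B (c₁ * c₂ * c₃) * a * x =
        algebraMap R B (c₁ * c₃) * (algebraMap R B c₂ * a * x) by simp only [map_mul]; ring]
      exact Ideal.mul_mem_left _ _ (hr₂ x hx)
    · rw [show algebraMap R B (c₁ * c₂ * c₃) * a = algebraMap R B c₁ * a * algebraMap R B (c₂ * c₃) by
        simp only [map_mul]; ring]
      exact sm_mul hs₁ _

end Groth.Agent.SmoothStrat
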