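import Groth.Agent.SmoothStrat.Descent
import Groth.Agent.FlatMisc.InsepSmooth

/-!
# Smooth stratifications over a finite purely inseparable extension of a field
-/

set_option autoImplicit false
set_option linter.style.haveILetI false
set_option backward.isDefEq.respectTransparency false
set_option backward.isDefEq.respectTransparency.types false
universe u

namespace Groth.Agent.SmoothStrat

open TensorProduct

attribute [local instance] Algebra.TensorProduct.rightAlgebra

variable {k : Type u} [Field k] {A : Type u} [CommRing A] [Algebra k A]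

/-- A stratification over an intermediate extension gives one over a larger one. -/
theorem Strat.ext_field {E E' : Type u} [Field E] [Algebra k E] [Field E'] [Algebra k E'] (φ : E →ₐ[k] E')
    {I : Ideal A} (h : Strat E (E ⊗[k] A) 1 (I.map (algebraMap A (E ⊗[k] A)))) :
    Strat E' (E' ⊗[k] A) 1 (I.map (algebraMap A (E' ⊗[k] A))) := by
  letI : Algebra E E' := φ.toRingHom.toAlgebra
  haveI : IsScalarTower k E E' := IsScalarTower.of_algebraMap_eq fun x => (φ.commutes x).symm
  let ψ : E ⊗[k] A →ₐ[k] E' ⊗[k] A := Algebra.TensorProduct.map φ (AlgHom.id k A)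
  letI : Algebra (E ⊗[k] A) (E' ⊗[k] A) := ψ.toRingHom.toAlgebra
  haveI : IsScalarTower A (E ⊗[k] A) (E' ⊗[k] A) := IsScalarTower.of_algebraMap_eq fun a => by
    show (1 : E') ⊗ₜ[k] a = ψ ((1 : E) ⊗ₜ[k] a)
    simp [ψ]
  haveI : IsScalarTower E (E ⊗[k] A) (E' ⊗[k] A) := IsScalarTower.of_algebraMap_eq fun e => by
    show algebraMap E E' e ⊗ₜ[k] (1 : A) = ψ (e ⊗ₜ[k] (1 : A))
    simp [ψ]
    rfl
  haveI : IsScalarTower k (E ⊗[k] A) (E' ⊗[k] A) := IsScalarTower.of_algebraMap_eq fun x => (ψ.commutes x).symm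
  haveI : IsScalarTower E E' (E' ⊗[k] A) := inferInstance
  haveI : Algebra.IsPushout E E' (E ⊗[k] A) (E' ⊗[k] A) :=
    (Algebra.IsPushout.comp_iff k E (R' := A) (S' := E ⊗[k] A)).1 inferInstance
  have h2 := h.baseChange_one (T := E') (B' := E' ⊗[k] A) (by rw [map_one]; exact isUnit_one)
  rwa [Ideal.map_map, ← IsScalarTower.algebraMap_eq] at h2

theorem not_mem_radical_of_forall_minimal {A : Type u} [CommRing A] {I : Ideal A} (hI : I ≠ ⊤) {a : A}
    (h : ∀ p : Ideal (A ⧸ I), p ∈ minimalPrimes (A ⧸ I) → Ideal.Quotient.mk I a ∉ p) : a ∉ I.radical := by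
  intro ha
  haveI : Nontrivial (A ⧸ I) := Ideal.Quotient.nontrivial_iff.2 hI
  obtain ⟨n, hn⟩ := ha
  obtain ⟨p, hp⟩ := Ideal.nonempty_minimalPrimes (I := (⊥ : Ideal (A ⧸ I))) bot_ne_top
  refine h p hp (hp.1.1.mem_of_pow_mem n ?_)
  rw [← map_pow, Ideal.Quotient.eq_zero_iff_mem.2 hn]
  exact zero_mem _

/-- Base change of a single stratum. -/
theorem Strat.step_of_sm {k' E' : Type u} [Field k'] [Algebra k k'] [Field E'] [Algebra k E'] (φ : k' →ₐ[k] E')
    {I : Ideal A} {a : A} {J : Ideal (k' ⊗[k] A)} (hJ : J.FG) (hIJ : I.map (algebraMap A (k' ⊗[k] A)) ≤ J)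
    (hrad : J ≤ (I.map (algebraMap A (k' ⊗[k] A))).radical)
    (hsm : Sm k' (k' ⊗[k] A) J (algebraMap A (k' ⊗[k] A) a))
    (htail : Strat E' (E' ⊗[k] A) 1 ((I ⊔ Ideal.span {a}).map (algebraMap A (E' ⊗[k] A)))) :
    Strat E' (E' ⊗[k] A) 1 (I.map (algebraMap A (E' ⊗[k] A))) := by
  letI : Algebra k' E' := φ.toRingHom.toAlgebra
  haveI : IsScalarTower k k' E' := IsScalarTower.of_algebraMap_eq fun x => (φ.commutes x).symm
  let ψ : k' ⊗[k] A →ₐ[k] E' ⊗[k] A := Algebra.TensorProduct.map φ (AlgHom.id k A)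
  letI : Algebra (k' ⊗[k] A) (E' ⊗[k] A) := ψ.toRingHom.toAlgebra
  haveI : IsScalarTower A (k' ⊗[k] A) (E' ⊗[k] A) := IsScalarTower.of_algebraMap_eq fun a => by
    show (1 : E') ⊗ₜ[k] a = ψ ((1 : k') ⊗ₜ[k] a)
    simp [ψ]
  haveI : IsScalarTower k' (k' ⊗[k] A) (E' ⊗[k] A) := IsScalarTower.of_algebraMap_eq fun e => by
    show algebraMap k' E' e ⊗ₜ[k] (1 : A) = ψ (e ⊗ₜ[k] (1 : A))
    simp [ψ]
    rfl
  haveI : IsScalarTower k (k' ⊗[k] A) (E' ⊗[k] A) := IsScalarTower.of_algebraMap_eq fun x => (ψ.commutes x).symm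
  haveI : Algebra.IsPushout k' E' (k' ⊗[k] A) (E' ⊗[k] A) :=
    (Algebra.IsPushout.comp_iff k k' (R' := A) (S' := k' ⊗[k] A)).1 inferInstance
  refine .step (algebraMap A _ a) (J.map (algebraMap (k' ⊗[k] A) (E' ⊗[k] A))) (hJ.map _) ?_ ?_ ?_ ?_
  · rw [IsScalarTower.algebraMap_eq A (k' ⊗[k] A) (E' ⊗[k] A), ← Ideal.map_map]
    exact Ideal.map_mono hIJ
  · intro x hx
    refine Ideal.mul_mem_left _ _ ?_
    rw [IsScalarTower.algebraMap_eq A (k' ⊗[k] A) (E' ⊗[k] A), ← Ideal.map_map]
    exact ((Ideal.map_mono hrad).trans (Ideal.map_radical_le _)) hx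
  · rw [map_one, one_mul, IsScalarTower.algebraMap_apply A (k' ⊗[k] A) (E' ⊗[k] A)]
    exact sm_baseChange hsm
  · rwa [Ideal.map_sup, Ideal.map_span, Set.image_singleton] at htail

/-- Smoothness of the reduction of a quotient. -/
theorem smooth_quot_radical {k' C W : Type u} [CommRing k'] [CommRing C] [CommRing W] [Algebra k' C] [Algebra k' W]
    (IW : Ideal W) (e : C ≃ₐ[k'] W ⧸ IW) [Algebra.Smooth k' (C ⧸ nilradical C)] :
    Algebra.Smooth k' (W ⧸ IW.radical) := by
  let e₁ : (C ⧸ nilradical C) ≃ₐ[k'] (W ⧸ IW) ⧸ IW.radical.map (Ideal.Quotient.mkₐ k' IW) :=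
    Ideal.quotientEquivAlg _ _ e (by
      show IW.radical.map (Ideal.Quotient.mk IW) = _
      rw [Ideal.map_radical_of_surjective Ideal.Quotient.mk_surjective (by rw [Ideal.mk_ker]),
        Ideal.map_quotient_self]
      ext x
      show IsNilpotent x ↔ _
      rw [show (e : C →+* W ⧸ IW) = e.toRingEquiv.toRingHom from rfl, Ideal.mem_map_iff_of_surjective e.toRingEquiv.toRingHom e.toRingEquiv.surjective]
      exact ⟨fun h => ⟨e.symm x, h.map e.symm, e.apply_symm_apply x⟩, fun ⟨y, hy, h⟩ => h ▸ (mem_nilradical.1 hy).map e⟩)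
  haveI := Algebra.Smooth.of_equiv e₁
  exact Algebra.Smooth.of_equiv (DoubleQuot.quotQuotEquivQuotOfLEₐ k' Ideal.le_radical)

/-- Smoothness of the radical on a basic open. -/
theorem sm_radical {k' : Type u} [Field k'] [Algebra k k'] {I : Ideal A} {a : A}
    (hsm : ∀ (Aa : Type u) [CommRing Aa] [Algebra (A ⧸ I) Aa] [Algebra k Aa] [IsScalarTower k (A ⧸ I) Aa]
        [IsLocalization.Away (Ideal.Quotient.mk I a) Aa],
        Algebra.Smooth k' ((k' ⊗[k] Aa) ⧸ nilradical (k' ⊗[k] Aa))) :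
    Sm k' (k' ⊗[k] A) (I.map (algebraMap A (k' ⊗[k] A))).radical (algebraMap A (k' ⊗[k] A) a) := by
  let g : Localization.Away a →+* SQ A I a := Ideal.Quotient.mk (I.map (algebraMap A (Localization.Away a)))
  letI : Algebra (A ⧸ I) (SQ A I a) :=
    (Ideal.Quotient.lift I (g.comp (algebraMap A (Localization.Away a)))
      (fun x hx => Ideal.Quotient.eq_zero_iff_mem.2 (Ideal.mem_map_of_mem _ hx))).toAlgebra
  haveI : IsScalarTower k (A ⧸ I) (SQ A I a) := IsScalarTower.of_algebraMap_eq fun r => by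
    show algebraMap k (SQ A I a) r = g (algebraMap A (Localization.Away a) (algebraMap k A r))
    rw [← IsScalarTower.algebraMap_apply]
    rfl
  haveI : IsLocalization.Away (Ideal.Quotient.mk I a) (SQ A I a) := by
    simp only [IsLocalization.Away, ← Submonoid.map_powers]
    refine IsLocalization.of_surjective _ (Localization.Away a) _ Ideal.Quotient.mk_surjective g Ideal.Quotient.mk_surjective ?_ ?_
    · rfl
    · rw [Ideal.mk_ker, Ideal.mk_ker]
  obtain ⟨e₀⟩ := nonempty_sqEquiv (R := k) (B := A) (T := k') (B' := k' ⊗[k] A) I a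
  haveI := hsm (SQ A I a)
  have h := smooth_quot_radical ((I.map (algebraMap A (k' ⊗[k] A))).map
    (algebraMap (k' ⊗[k] A) (Localization.Away (algebraMap A (k' ⊗[k] A) a)))) e₀
  rw [← IsLocalization.map_radical (Submonoid.powers (algebraMap A (k' ⊗[k] A) a))] at h
  exact h

/-- A stratification of the base change to a field. -/
def StratOver (E : Type u) [Field E] [Algebra k E] (I : Ideal A) : Prop :=
  Strat E (E ⊗[k] A) 1 (I.map (algebraMap A (E ⊗[k] A)))

/-- A stratification over a finite purely inseparable extension. -/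
theorem exists_strat_field [Algebra.FiniteType k A] (Ω : Type u) [Field Ω] [Algebra k Ω] [IsAlgClosed Ω]
    [Algebra.IsAlgebraic k Ω] (I : Ideal A) :
    ∃ E : IntermediateField k Ω, FiniteDimensional k E ∧ IsPurelyInseparable k E ∧
      StratOver (k := k) E I := by
  haveI : IsNoetherianRing A := Algebra.FiniteType.isNoetherianRing k A
  induction I using WellFoundedGT.induction with
  | ind I ih =>
    rcases eq_or_ne I ⊤ with rfl | hI
    · refine ⟨⊥, inferInstance, inferInstance, .top ?_⟩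
      rw [Ideal.map_top, Ideal.radical_top]
      exact Submodule.mem_top
    obtain ⟨k', _, _, _, _, ab, hab, hsm⟩ := InsepSmooth.exists_smooth_red k (A ⧸ I)
    obtain ⟨a, rfl⟩ := Ideal.Quotient.mk_surjective ab
    have ha := not_mem_radical_of_forall_minimal hI hab
    obtain ⟨E₂, h₂, h₂', hE₂⟩ := ih (I ⊔ Ideal.span {a}) (lt_of_le_of_ne le_sup_left fun he =>
      ha (Ideal.le_radical (he.symm ▸ Ideal.mem_sup_right (Ideal.mem_span_singleton_self a))))
    let ι : k' →ₐ[k] Ω := IsAlgClosed.lift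
    let eE : k' ≃ₐ[k] ι.fieldRange := AlgEquiv.ofInjectiveField ι
    haveI : FiniteDimensional k ι.fieldRange := eE.toLinearEquiv.finiteDimensional
    haveI : IsPurelyInseparable k ι.fieldRange := eE.isPurelyInseparable
    refine ⟨ι.fieldRange ⊔ E₂, inferInstance, inferInstance, ?_⟩
    haveI : IsNoetherianRing (k' ⊗[k] A) := Algebra.FiniteType.isNoetherianRing k' (k' ⊗[k] A)
    exact Strat.step_of_sm (J := (I.map (algebraMap A (k' ⊗[k] A))).radical) ((IntermediateField.inclusion le_sup_left).comp eE.toAlgHom)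
      (IsNoetherian.noetherian _) Ideal.le_radical le_rfl (sm_radical hsm)
      (hE₂.ext_field (IntermediateField.inclusion le_sup_right))

end Groth.Agent.SmoothStrat
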